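import Mathlib
import Cfsg.Agent.Lib.Base.CoreFree

/-!
# Fixed points of a permuted decomposition, and two group-theoretic counting lemmas

An operator permuting the summands of a decomposition into equal pieces has fixed space at most
one piece per orbit.  An automorphism of order `p` of an abelian group whose fixed subgroup has
index prime to `p` has that index congruent to one modulo `p`.  In a solvable group generated by
the conjugates of an element of prime order `p > 3`, that element fixes at most a quarter of the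
cosets of a proper subgroup.
-/

set_option autoImplicit false

namespace CfsgLib.Rep.FixedOrbit

open Module

section Orbit

variable {k U X : Type*} [Field k] [AddCommGroup U] [Module k U] [FiniteDimensional k U] [Fintype X]

/-- The orbit bound for the fixed space. -/
theorem finrank_fixed_le (S : X → Submodule k U) (hspan : ⨆ x, S x = ⊤)
    (hind : ∀ c : X → U, (∀ x, c x ∈ S x) → ∑ x, c x = 0 → ∀ x, c x = 0)
    {d : ℕ} (hd : ∀ x, finrank k (S x) = d) (τ : U →ₗ[k] U) (σ : Equiv.Perm X)
    (hmap : ∀ x, ∀ u ∈ S x, τ u ∈ S (σ x)) {p : ℕ} (hp : p.Prime) (hσ : σ ^ p = 1) :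
    finrank k U = Fintype.card X * d ∧
      p * finrank k (LinearMap.ker (τ - LinearMap.id)) ≤
        d * ((p - 1) * Nat.card {x : X // σ x = x} + Fintype.card X) := by
  classical
  let Φ : (∀ x, S x) →ₗ[k] U := ∑ x, (S x).subtype.comp (LinearMap.proj x)
  have hΦ : ∀ c : ∀ x, S x, Φ c = ∑ x, (c x : U) := fun c => by simp [Φ, LinearMap.sum_apply]
  have hinj : Function.Injective Φ := by
    rw [← LinearMap.ker_eq_bot, LinearMap.ker_eq_bot']
    intro c hc
    funext x
    exact Subtype.ext (hind (fun y => (c y : U)) (fun y => (c y).2) (by rw [← hΦ]; exact hc) x)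
  have hsurj : Function.Surjective Φ := by
    rw [← LinearMap.range_eq_top, eq_top_iff, ← hspan]
    refine iSup_le fun x u hu => ⟨Pi.single x ⟨u, hu⟩, ?_⟩
    rw [hΦ, Finset.sum_eq_single x (fun y _ hy => by simp [Pi.single_eq_of_ne hy])
      (fun h => absurd (Finset.mem_univ x) h)]
    simp
  let e := LinearEquiv.ofBijective Φ ⟨hinj, hsurj⟩
  refine ⟨?_, ?_⟩
  · rw [← e.finrank_eq, Module.finrank_pi_fintype, Finset.sum_congr rfl (fun x _ => hd x),
      Finset.sum_const, smul_eq_mul, Finset.card_univ]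
  let H := Subgroup.zpowers σ
  let Ω := MulAction.orbitRel.Quotient H X
  haveI : Fintype Ω := Fintype.ofFinite Ω
  let proj : (∀ x, S x) →ₗ[k] (∀ ω : Ω, S (Quotient.out ω)) :=
    LinearMap.pi fun ω => LinearMap.proj (Quotient.out ω)
  let F := LinearMap.ker (τ - LinearMap.id)
  have hcomp : ∀ u ∈ F, ∀ x, (e.symm u (σ x) : U) = τ (e.symm u x) := by
    intro u hu
    have hu' : τ u = u := sub_eq_zero.1 (LinearMap.mem_ker.1 hu)
    let c' : ∀ x, S x := fun y =>
      ⟨τ (e.symm u (σ.symm y)), by simpa using hmap (σ.symm y) _ (e.symm u (σ.symm y)).2⟩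
    have hc' : Φ c' = u := by
      rw [hΦ]
      show ∑ y, τ (e.symm u (σ.symm y) : U) = u
      rw [Equiv.sum_comp σ.symm fun y => τ (e.symm u y : U), ← map_sum, ← hΦ]
      exact (congrArg τ (e.apply_symm_apply u)).trans hu'
    have hc : c' = e.symm u := hinj (hc'.trans (e.apply_symm_apply u).symm)
    intro x
    rw [← hc]
    show τ (e.symm u (σ.symm (σ x)) : U) = τ (c' x)
    rw [hc, Equiv.symm_apply_apply]
  let L : F →ₗ[k] (∀ ω : Ω, S (Quotient.out ω)) := proj ∘ₗ e.symm.toLinearMap ∘ₗ F.subtype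
  have hL : Function.Injective L := by
    rw [← LinearMap.ker_eq_bot, LinearMap.ker_eq_bot']
    rintro ⟨u, hu⟩ hz
    have hzero : ∀ y, e.symm u y = 0 := by
      intro y
      have hrel : (MulAction.orbitRel H X) (Quotient.out (⟦y⟧ : Ω)) y :=
        Quotient.exact (Quotient.out_eq _)
      obtain ⟨⟨h, hh⟩, hy⟩ := hrel
      obtain ⟨n, hn⟩ := mem_powers_iff_mem_zpowers.2 hh
      have h0 : e.symm u (Quotient.out (⟦y⟧ : Ω)) = 0 := congrFun hz (⟦y⟧ : Ω)
      have hstep : ∀ m : ℕ, e.symm u ((σ ^ m) y) = 0 → e.symm u y = 0 := by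
        intro m hm
        have hback : ∀ j z, e.symm u z = 0 → e.symm u ((σ ^ j) z) = 0 := by
          intro j
          induction j with
          | zero => intro z hz; exact hz
          | succ j ih =>
            intro z hz
            refine Subtype.ext ?_
            rw [pow_succ', Equiv.Perm.mul_apply, hcomp u hu, ih z hz]
            simp
        have := hback ((p - 1) * m) _ hm
        rwa [← Equiv.Perm.mul_apply, ← pow_add,
          show (p - 1) * m + m = p * m by rw [Nat.sub_mul, one_mul]; exact Nat.sub_add_cancel (Nat.le_mul_of_pos_left m hp.pos),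
          pow_mul, hσ, one_pow, Equiv.Perm.one_apply] at this
      refine hstep n ?_
      have hy' : h y = Quotient.out (⟦y⟧ : Ω) := hy
      rw [show (σ ^ n) y = h y by rw [← hn], hy']
      exact h0
    apply Subtype.ext
    show u = 0
    rw [← e.apply_symm_apply u, show e.symm u = 0 from funext hzero, map_zero]
  have h1 : finrank k F ≤ Fintype.card Ω * d := by
    refine (LinearMap.finrank_le_finrank_of_injective hL).trans ?_
    rw [Module.finrank_pi_fintype, Finset.sum_congr rfl (fun ω _ => hd _), Finset.sum_const,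
      smul_eq_mul, Finset.card_univ]
  let fo : Finset Ω := Finset.univ.filter fun ω => σ (Quotient.out ω) = Quotient.out ω
  have hfo : fo.card ≤ Nat.card {x : X // σ x = x} := by
    rw [Nat.card_eq_fintype_card, Fintype.card_subtype]
    refine Finset.card_le_card_of_injOn (fun ω => Quotient.out ω) (fun ω hω => by simpa [fo] using hω) ?_
    intro a _ b _ hab
    exact Quotient.out_injective hab
  have h2 : p * Fintype.card Ω ≤ (p - 1) * fo.card + Fintype.card X := by
    have hX : Fintype.card X = ∑ ω : Ω, Fintype.card (MulAction.orbit H (Quotient.out ω)) := by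
      rw [← Fintype.card_sigma]
      exact Fintype.card_congr (MulAction.selfEquivSigmaOrbits H X)
    have hb : ∀ ω : Ω, p ≤ Fintype.card (MulAction.orbit H (Quotient.out ω)) +
        (if σ (Quotient.out ω) = Quotient.out ω then p - 1 else 0) := by
      intro ω
      have hpos : 0 < Fintype.card (MulAction.orbit H (Quotient.out ω)) :=
        Fintype.card_pos_iff.2 ⟨⟨_, MulAction.mem_orbit_self _⟩⟩
      split_ifs with hω
      · omega
      · have hdvd : Fintype.card (MulAction.orbit H (Quotient.out ω)) ∣ p := by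
          haveI : Fintype (MulAction.stabilizer H (Quotient.out ω)) := Fintype.ofFinite _
          refine (Dvd.intro _ (MulAction.card_orbit_mul_card_stabilizer_eq_card_group H
            (Quotient.out ω))).trans ?_
          rw [← Nat.card_eq_fintype_card, Nat.card_zpowers]
          exact orderOf_dvd_of_pow_eq_one hσ
        rcases (Nat.dvd_prime hp).1 hdvd with h | h
        · exfalso
          obtain ⟨z, hz⟩ := Fintype.card_eq_one_iff.1 h
          have e1 := congrArg Subtype.val (hz ⟨σ (Quotient.out ω),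
            ⟨⟨σ, Subgroup.mem_zpowers σ⟩, rfl⟩⟩)
          have e2 := congrArg Subtype.val (hz ⟨Quotient.out ω, MulAction.mem_orbit_self _⟩)
          exact hω (e1.trans e2.symm)
        · omega
    calc p * Fintype.card Ω = ∑ _ω : Ω, p := by
          rw [Finset.sum_const, smul_eq_mul, mul_comm, Finset.card_univ]
      _ ≤ ∑ ω : Ω, (Fintype.card (MulAction.orbit H (Quotient.out ω)) +
            (if σ (Quotient.out ω) = Quotient.out ω then p - 1 else 0)) :=
          Finset.sum_le_sum fun ω _ => hb ω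
      _ = (p - 1) * fo.card + Fintype.card X := by
          rw [Finset.sum_add_distrib, ← hX, ← Finset.sum_filter, Finset.sum_const, smul_eq_mul,
            add_comm, mul_comm]
  calc p * finrank k F ≤ p * (Fintype.card Ω * d) := Nat.mul_le_mul_left p h1
    _ = d * (p * Fintype.card Ω) := by ring
    _ ≤ d * ((p - 1) * Nat.card {x : X // σ x = x} + Fintype.card X) :=
      Nat.mul_le_mul_left d (h2.trans (Nat.add_le_add_right (Nat.mul_le_mul_left _ hfo) _))

end Orbit

/-- The index of the fixed subgroup is congruent to one. -/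
theorem index_fixed_mod {M : Type*} [Group M] [Finite M] [IsMulCommutative M] (σ : MulAut M)
    {p : ℕ} [Fact p.Prime] (hσ : σ ^ p = 1) (C : Subgroup M) (hC : ∀ x, x ∈ C ↔ σ x = x)
    (hco : C.index.Coprime p) : C.index ≡ 1 [MOD p] := by
  classical
  letI : CommGroup M :=
    { (inferInstance : Group M) with mul_comm := fun u w => ‹IsMulCommutative M›.is_comm.comm u w }
  let δ : M →* M := MonoidHom.mk' (fun x => σ x * x⁻¹) (fun x y => by
    rw [map_mul, mul_inv_rev, mul_comm y⁻¹ x⁻¹, mul_mul_mul_comm])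
  have hker : δ.ker = C := by
    ext x
    rw [MonoidHom.mem_ker, hC]
    exact mul_inv_eq_one
  have hcard : Nat.card δ.range = C.index := by rw [← hker, Subgroup.index_ker]
  have hstab : ∀ (n : ℕ), ∀ y ∈ δ.range, (σ ^ n) y ∈ δ.range := by
    intro n
    induction n with
    | zero => intro y hy; simpa using hy
    | succ n ih =>
      intro y hy
      obtain ⟨x, hx⟩ := ih y hy
      refine ⟨σ x, ?_⟩
      show σ (σ x) * (σ x)⁻¹ = (σ ^ (n + 1)) y
      rw [pow_succ', MulAut.mul_apply, ← hx]
      show _ = σ (σ x * x⁻¹)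
      rw [map_mul, map_inv]
  let H := Subgroup.zpowers σ
  have hstabH : ∀ (h : H), ∀ y ∈ δ.range, (h : MulAut M) y ∈ δ.range := by
    rintro ⟨h, hh⟩ y hy
    have hfin : IsOfFinOrder σ := isOfFinOrder_iff_pow_eq_one.2 ⟨p, (Fact.out : p.Prime).pos, hσ⟩
    obtain ⟨n, hn⟩ := hfin.mem_powers_iff_mem_zpowers.2 hh
    show h y ∈ δ.range
    rw [← hn]
    exact hstab n y hy
  letI act : MulAction H δ.range :=
    { smul := fun h y => ⟨(h : MulAut M) y, hstabH h y y.2⟩
      one_smul := fun y => Subtype.ext rfl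
      mul_smul := fun h h' y => Subtype.ext rfl }
  have hHp : IsPGroup p H := by
    rcases (Nat.dvd_prime (Fact.out : p.Prime)).1 (orderOf_dvd_of_pow_eq_one hσ) with h | h
    · exact IsPGroup.of_card (n := 0) (by rw [Nat.card_zpowers, h, pow_zero])
    · exact IsPGroup.of_card (n := 1) (by rw [Nat.card_zpowers, h, pow_one])
  have hfix : MulAction.fixedPoints H δ.range = {1} := by
    ext y
    refine ⟨fun hy => ?_, ?_⟩
    · obtain ⟨x, hx⟩ := y.2
      have hy1 : σ (y : M) = y := congrArg Subtype.val (hy ⟨σ, Subgroup.mem_zpowers σ⟩)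
      have hit : ∀ n : ℕ, (σ ^ n) x = x * (y : M) ^ n := by
        intro n
        induction n with
        | zero => simp
        | succ n ih =>
          rw [pow_succ', MulAut.mul_apply, ih, map_mul, map_pow, hy1, pow_succ']
          show σ x * _ = x * ((y : M) * _)
          rw [← mul_assoc x, ← hx]
          show σ x * _ = x * (σ x * x⁻¹) * _
          rw [mul_comm x, inv_mul_cancel_right]
      have h1 := hit p
      rw [hσ, MulAut.one_apply, left_eq_mul] at h1
      refine Set.mem_singleton_iff.2 (orderOf_eq_one_iff.1 ?_)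
      refine Nat.eq_one_of_dvd_coprimes hco (hcard ▸ orderOf_dvd_natCard y) ?_
      exact orderOf_dvd_of_pow_eq_one (Subtype.ext h1)
    · rintro rfl h
      exact Subtype.ext (map_one (h : MulAut M))
  have := hHp.card_modEq_card_fixedPoints δ.range
  rw [hfix, hcard] at this
  simpa using this

/-- The case of a core-free maximal subgroup. -/
theorem four_mul_fixed_le_core {G : Type*} [Group G] [Finite G] [Group.IsSolvable G] {p : ℕ}
    [Fact p.Prime] (hp : 3 < p) (g : G) (hg : g ^ p = 1) (hg1 : g ≠ 1)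
    (hgen : Subgroup.normalClosure {g} = ⊤) (M : Subgroup G) (hM : IsCoatom M)
    (hcore : M.normalCore = ⊥) :
    4 * Nat.card {x : G ⧸ M // g • x = x} ≤ Nat.card (G ⧸ M) := by
  classical
  haveI : Nontrivial G := ⟨⟨g, 1, hg1⟩⟩
  rcases isEmpty_or_nonempty {x : G ⧸ M // g • x = x} with he | ⟨⟨x0, hx0⟩⟩
  · simp
  obtain ⟨R, hR⟩ := CfsgLib.Base.exists_isMinimalNormal (G := G)
  haveI := hR.normal
  haveI hRc : IsMulCommutative R := hR.isMulCommutative inferInstance
  have hRC : R ≤ Subgroup.centralizer (R : Set G) := fun a ha b hb =>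
    congrArg Subtype.val (hRc.is_comm.comm ⟨b, hb⟩ ⟨a, ha⟩)
  have hinf : R ⊓ M = ⊥ := CfsgLib.Base.CoreFree.normal_inf hM hcore hR.ne_bot hRC
  have hsup : M ⊔ R = ⊤ := CfsgLib.Base.CoreFree.sup_eq_top hM hcore hR.ne_bot
  obtain ⟨a, rfl⟩ := QuotientGroup.mk_surjective x0
  let f : R → G ⧸ M := fun r => (r : G) • (QuotientGroup.mk a : G ⧸ M)
  have hinj : Function.Injective f := by
    intro r r' h
    have h' : ((r : G) * a)⁻¹ * ((r' : G) * a) ∈ M := QuotientGroup.eq.1 h
    have hR' : ((r : G) * a)⁻¹ * ((r' : G) * a) ∈ R := by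
      have := hR.normal.conj_mem _ (R.mul_mem (R.inv_mem r.2) r'.2) a⁻¹
      rwa [inv_inv, show a⁻¹ * ((r : G)⁻¹ * r') * a = ((r : G) * a)⁻¹ * ((r' : G) * a) by group] at this
    have h1 : ((r : G) * a)⁻¹ * ((r' : G) * a) ∈ R ⊓ M := ⟨hR', h'⟩
    rw [hinf, Subgroup.mem_bot, inv_mul_eq_one, mul_right_cancel_iff] at h1
    exact Subtype.ext h1
  have hdec : ∀ b : G, ∃ r ∈ R, ∃ m ∈ M, r * m = b := fun b =>
    Subgroup.mem_sup_of_normal_left.1 (by rw [sup_comm, hsup]; trivial)
  have hsurj : Function.Surjective f := by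
    intro y
    obtain ⟨b, rfl⟩ := QuotientGroup.mk_surjective y
    obtain ⟨r0, hr0, m0, hm0, ha⟩ := hdec a
    obtain ⟨r1, hr1, m1, hm1, hb⟩ := hdec b
    refine ⟨⟨r1 * r0⁻¹, R.mul_mem hr1 (R.inv_mem hr0)⟩, ?_⟩
    show QuotientGroup.mk ((r1 * r0⁻¹) * a) = QuotientGroup.mk b
    rw [QuotientGroup.eq, ← ha, ← hb,
      show (r1 * r0⁻¹ * (r0 * m0))⁻¹ * (r1 * m1) = m0⁻¹ * m1 by group]
    exact M.mul_mem (M.inv_mem hm0) hm1
  let σ : MulAut R := MulAut.conjNormal g
  let C : Subgroup R :=
    { carrier := {r | σ r = r}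
      one_mem' := map_one σ
      mul_mem' := fun {u v} hu hv => show σ (u * v) = u * v by rw [map_mul, hu, hv]
      inv_mem' := fun {u} hu => show σ u⁻¹ = u⁻¹ by rw [map_inv, hu] }
  have hequi : ∀ r : R, g • f r = f (σ r) := by
    intro r
    show g • (r : G) • (QuotientGroup.mk a : G ⧸ M) = _
    rw [← mul_smul, show g * (r : G) = (σ r : G) * g by
      show _ = g * r * g⁻¹ * g
      rw [inv_mul_cancel_right], mul_smul, hx0]
  have hfix : Nat.card {x : G ⧸ M // g • x = x} = Nat.card C := by
    refine (Nat.card_congr ((Equiv.ofBijective f ⟨hinj, hsurj⟩).subtypeEquiv fun r => ?_)).symm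
    show σ r = r ↔ g • f r = f r
    rw [hequi]
    exact hinj.eq_iff.symm
  rw [hfix, ← Nat.card_congr (Equiv.ofBijective f ⟨hinj, hsurj⟩), ← C.card_mul_index, mul_comm 4]
  refine Nat.mul_le_mul_left _ (not_lt.1 fun hlt => ?_)
  have hpos : C.index ≠ 0 := Subgroup.index_ne_zero_of_finite
  have hco : C.index.Coprime p := by
    refine ((Fact.out : p.Prime).coprime_iff_not_dvd.2 fun hd => ?_).symm
    have := Nat.le_of_dvd (Nat.pos_of_ne_zero hpos) hd
    omega
  have hσ : σ ^ p = 1 := by
    show (MulAut.conjNormal g) ^ p = 1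
    rw [← map_pow, hg, map_one]
  have hmod := index_fixed_mod σ hσ C (fun _ => Iff.rfl) hco
  rw [Nat.ModEq, Nat.one_mod_eq_one.2 (by omega), Nat.mod_eq_of_lt (by omega)] at hmod
  have htop : C = ⊤ := Subgroup.index_eq_one.1 hmod
  have hgR : g ∈ Subgroup.centralizer (R : Set G) := by
    intro r hr
    have h1 : σ ⟨r, hr⟩ = ⟨r, hr⟩ := (htop ▸ Subgroup.mem_top (⟨r, hr⟩ : R) : (⟨r, hr⟩ : R) ∈ C)
    have h2 : g * r * g⁻¹ = r := congrArg Subtype.val h1
    rw [mul_inv_eq_iff_eq_mul] at h2
    exact h2.symm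
  have hcent : ∀ b : G, ∀ r ∈ R, b * r = r * b := by
    intro b r hr
    have h1 : Subgroup.normalClosure {g} ≤ Subgroup.centralizer (R : Set G) :=
      Subgroup.normalClosure_le_normal (Set.singleton_subset_iff.2 hgR)
    exact (h1 (hgen ▸ Subgroup.mem_top b) r hr).symm
  have hMn : M.Normal := by
    refine ⟨fun m hm b => ?_⟩
    obtain ⟨r, hr, m', hm', rfl⟩ := hdec b
    rw [show r * m' * m * (r * m')⁻¹ = r * (m' * m * m'⁻¹) * r⁻¹ by group,
      show r * (m' * m * m'⁻¹) = (m' * m * m'⁻¹) * r from (hcent _ r hr).symm, mul_inv_cancel_right]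
    exact M.mul_mem (M.mul_mem hm' hm) (M.inv_mem hm')
  have hMbot : M = ⊥ := (M.normalCore_eq_self).symm.trans hcore
  have hfx : (g * a)⁻¹ * a ∈ M := QuotientGroup.eq.1 hx0
  rw [hMbot, Subgroup.mem_bot, inv_mul_eq_one, mul_eq_right] at hfx
  exact hg1 hfx

/-- In a solvable group generated by the conjugates of an element of prime order `p > 3`, this
element fixes at most a quarter of the cosets of a proper subgroup. -/
theorem four_mul_fixed_le {G : Type*} [Group G] [Finite G] [Group.IsSolvable G] {p : ℕ}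
    [Fact p.Prime] (hp : 3 < p) (g : G) (hg : g ^ p = 1)
    (hgen : Subgroup.normalClosure {g} = ⊤) (H : Subgroup G) (hH : H ≠ ⊤) :
    4 * Nat.card {x : G ⧸ H // g • x = x} ≤ Nat.card (G ⧸ H) := by
  classical
  obtain ⟨M, hM, hHM⟩ := (eq_top_or_exists_le_coatom H).resolve_left hH
  let N := M.normalCore
  let q := QuotientGroup.mk' N
  have hq : Function.Surjective q := QuotientGroup.mk'_surjective N
  haveI : Group.IsSolvable (G ⧸ N) := Group.isSolvable_of_surjective hq
  have hNM : N ≤ M := Subgroup.normalCore_le M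
  have hMb : IsCoatom (M.map q) := by
    refine ⟨fun h => hM.1 ?_, fun K hK => ?_⟩
    · rw [← Subgroup.comap_map_eq_self (show q.ker ≤ M by rw [QuotientGroup.ker_mk']; exact hNM), h,
        Subgroup.comap_top]
    · have h1 : M < K.comap q :=
        (Subgroup.comap_map_eq_self (show q.ker ≤ M by rw [QuotientGroup.ker_mk']; exact hNM)).symm.trans_lt
          ((Subgroup.comap_lt_comap_of_surjective hq).2 hK)
      rw [← Subgroup.map_comap_eq_self_of_surjective hq K, hM.2 _ h1,
        Subgroup.map_top_of_surjective q hq]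
  have hcore : (M.map q).normalCore = ⊥ := by
    rw [eq_bot_iff]
    intro y hy
    obtain ⟨b, rfl⟩ := hq y
    rw [Subgroup.mem_bot, QuotientGroup.mk'_apply, QuotientGroup.eq_one_iff]
    have h1 : ((M.map q).normalCore.comap q) ≤ N := Subgroup.normal_le_normalCore.2 (by
      refine (Subgroup.comap_mono (Subgroup.normalCore_le _)).trans ?_
      rw [Subgroup.comap_map_eq_self (show q.ker ≤ M by rw [QuotientGroup.ker_mk']; exact hNM)])
    exact h1 hy
  have hgq : q g ^ p = 1 := by rw [← map_pow, hg, map_one]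
  have hgen' : Subgroup.normalClosure {q g} = ⊤ := by
    rw [← Set.image_singleton, ← Subgroup.map_normalClosure _ q hq, hgen,
      Subgroup.map_top_of_surjective q hq]
  have hgq1 : q g ≠ 1 := by
    intro h
    refine hM.1 (top_le_iff.1 ?_)
    rw [← hgen]
    refine le_trans (Subgroup.normalClosure_le_normal (N := N) ?_) hNM
    exact Set.singleton_subset_iff.2 ((QuotientGroup.eq_one_iff g).1 h)
  let e : G ⧸ M → (G ⧸ N) ⧸ (M.map q) := Quotient.map' q (fun b c h => by
    rw [QuotientGroup.leftRel_apply] at h ⊢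
    rw [← map_inv, ← map_mul]
    exact Subgroup.mem_map_of_mem q h)
  have he : Function.Bijective e := by
    refine ⟨?_, ?_⟩
    · intro x y h
      obtain ⟨b, rfl⟩ := QuotientGroup.mk_surjective x
      obtain ⟨c, rfl⟩ := QuotientGroup.mk_surjective y
      have h' : (q b)⁻¹ * q c ∈ M.map q := QuotientGroup.eq.1 h
      rw [← map_inv, ← map_mul, ← Subgroup.mem_comap,
        Subgroup.comap_map_eq_self (show q.ker ≤ M by rw [QuotientGroup.ker_mk']; exact hNM)] at h'
      exact QuotientGroup.eq.2 h'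
    · intro y
      obtain ⟨z, rfl⟩ := QuotientGroup.mk_surjective y
      obtain ⟨b, rfl⟩ := hq z
      exact ⟨QuotientGroup.mk b, rfl⟩
  have hee : ∀ x, e (g • x) = q g • e x := by
    intro x
    obtain ⟨b, rfl⟩ := QuotientGroup.mk_surjective x
    show QuotientGroup.mk (q (g * b)) = QuotientGroup.mk (q g * q b)
    rw [map_mul]
  have hbM : 4 * Nat.card {x : G ⧸ M // g • x = x} ≤ Nat.card (G ⧸ M) := by
    rw [Nat.card_congr (Equiv.ofBijective e he), Nat.card_congr
      ((Equiv.ofBijective e he).subtypeEquiv (q := fun y => q g • y = y) fun x => ?_)]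
    · exact four_mul_fixed_le_core hp (q g) hgq hgq1 hgen' _ hMb hcore
    · show g • x = x ↔ q g • e x = e x
      rw [← hee]
      exact he.1.eq_iff.symm
  let P := Subgroup.quotientEquivProdOfLE hHM
  let f : {x : G ⧸ H // g • x = x} → {x : G ⧸ M // g • x = x} × (M ⧸ H.subgroupOf M) := fun x =>
    (⟨(P x.1).1, by
      obtain ⟨⟨x⟩, hx⟩ := x
      show g • (QuotientGroup.mk x : G ⧸ M) = QuotientGroup.mk x
      have h : (g * x)⁻¹ * x ∈ H := QuotientGroup.eq.1 hx
      exact QuotientGroup.eq.2 (hHM h)⟩, (P x.1).2)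
  have hf : Function.Injective f := fun x y h => Subtype.ext (P.injective (Prod.ext
    (congrArg (fun z : {x : G ⧸ M // g • x = x} × (M ⧸ H.subgroupOf M) => (z.1 : G ⧸ M)) h)
    (congrArg (fun z : {x : G ⧸ M // g • x = x} × (M ⧸ H.subgroupOf M) => z.2) h)))
  calc 4 * Nat.card {x : G ⧸ H // g • x = x}
      ≤ 4 * (Nat.card {x : G ⧸ M // g • x = x} * Nat.card (M ⧸ H.subgroupOf M)) :=
        Nat.mul_le_mul_left 4 ((Nat.card_le_card_of_injective f hf).trans (Nat.card_prod _ _).le)
    _ = (4 * Nat.card {x : G ⧸ M // g • x = x}) * Nat.card (M ⧸ H.subgroupOf M) := by ring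
    _ ≤ Nat.card (G ⧸ M) * Nat.card (M ⧸ H.subgroupOf M) := Nat.mul_le_mul_right _ hbM
    _ = Nat.card (G ⧸ H) := by rw [Nat.card_congr P, Nat.card_prod]

end CfsgLib.Rep.FixedOrbit
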