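import Cfsg.Agent.Lib.Rep.SolvableFixedSpace
import Cfsg.Agent.Lib.OddOrder.FrobeniusAction

/-!
# The fixed space bound over any field of positive characteristic
-/

set_option autoImplicit false
set_option linter.style.haveILetI false

namespace CfsgLib.Rep.SolvableFixed

open Module
open scoped TensorProduct

universe u v w

/-- An abelian group of exponent the characteristic has a nonzero fixed vector. -/
theorem exists_fixed_vector {k : Type w} [Field k] {ℓ : ℕ} [Fact ℓ.Prime] [CharP k ℓ] {G : Type u}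
    [Group G] [Finite G] {V : Type v} [AddCommGroup V] [Module k V] [Nontrivial V]
    (ρ : Representation k G V) (N : Subgroup G) (hN : IsMulCommutative N)
    (hexp : ∀ x ∈ N, x ^ ℓ = 1) : ∃ v : V, v ≠ 0 ∧ ∀ x ∈ N, ρ x v = v := by
  classical
  haveI := Fintype.ofFinite N
  suffices h : ∀ s : Finset N, ∃ v : V, v ≠ 0 ∧ ∀ x ∈ s, ρ x v = v by
    obtain ⟨v, hv, h⟩ := h Finset.univ
    exact ⟨v, hv, fun x hx => h ⟨x, hx⟩ (Finset.mem_univ _)⟩
  intro s
  induction s using Finset.induction_on with
  | empty =>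
    obtain ⟨v, hv⟩ := exists_ne (0 : V)
    exact ⟨v, hv, fun x hx => absurd hx (Finset.notMem_empty x)⟩
  | insert a s _ ih =>
    obtain ⟨v, hv, hfix⟩ := ih
    haveI : CharP (Module.End k V) ℓ :=
      charP_of_injective_algebraMap (FaithfulSMul.algebraMap_injective k (Module.End k V)) ℓ
    have hnil : (ρ a - 1) ^ ℓ = 0 := by
      rw [sub_pow_char_of_commute _ (Commute.one_right _), ← map_pow,
        hexp _ a.2, map_one, one_pow, sub_self]
    have hex : ∃ m : ℕ, (((ρ a - 1) ^ m : Module.End k V)) v = 0 := ⟨ℓ, by rw [hnil]; rfl⟩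
    have hm0 : Nat.find hex ≠ 0 := by
      intro h
      have h0 := Nat.find_spec hex
      rw [h, pow_zero, Module.End.one_apply] at h0
      exact hv h0
    obtain ⟨m, hm⟩ := Nat.exists_eq_succ_of_ne_zero hm0
    refine ⟨((ρ a - 1) ^ m) v, Nat.find_min hex (by omega), fun x hx => ?_⟩
    rcases Finset.mem_insert.1 hx with rfl | hx
    · have h0 := Nat.find_spec hex
      rw [hm, pow_succ', Module.End.mul_apply, LinearMap.sub_apply, Module.End.one_apply,
        sub_eq_zero] at h0
      exact h0
    · have hc : Commute (ρ x) ((ρ a - 1) ^ m) := by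
        refine Commute.pow_right (Commute.sub_right ?_ (Commute.one_right _)) m
        show ρ x * ρ a = ρ a * ρ x
        rw [← map_mul, ← map_mul,
          show (x : G) * a = a * x from congrArg Subtype.val (hN.is_comm.comm x a)]
      rw [← Module.End.mul_apply, hc.eq, Module.End.mul_apply, hfix x hx]

variable {p : ℕ} [Fact p.Prime]

theorem recBound_mono {N N' : ℕ} (h : N' ≤ N) (hrec : RecBound.{u} p N) : RecBound.{u} p N' :=
  fun G _ _ hG => hrec G (lt_of_lt_of_le hG h)

/-- The bound for every module on which some normal subgroup of invertible order sums to zero. -/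
theorem bound_of_sum_eq_zero {K : Type w} [Field K] [IsAlgClosed K] {ℓ : ℕ} [Fact ℓ.Prime]
    [CharP K ℓ] {G : Type u} [Group G] [Finite G] (hsol : Group.IsSolvable G) (hp : 3 < p) (g : G)
    (hg : g ^ p = 1) (hgen : Subgroup.normalClosure {g} = ⊤) (N : Subgroup G) [Fintype N]
    (hcard : (Fintype.card N : K) ≠ 0) (hrec : RecBound.{u} p (Nat.card G)) :
    ∀ (n : ℕ) (V : Type v) [AddCommGroup V] [Module K V] [FiniteDimensional K V]
      (ρ : Representation K G V), finrank K V = n → 0 < n → ∑ x : N, ρ x = 0 →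
        2 * finrank K (LinearMap.ker (ρ g - LinearMap.id)) < finrank K V := by
  intro n
  induction n using Nat.strong_induction_on with
  | _ n ih =>
  intro V _ _ _ ρ hn hpos hsum
  haveI : Nontrivial V := Module.nontrivial_of_finrank_pos (R := K) (hn ▸ hpos)
  by_cases hirr : Irr ρ
  · have hg1 : ρ g ≠ 1 := by
      intro h
      have hall : ∀ b : G, ρ b = 1 := fun b => MonoidHom.mem_ker.1
        (Subgroup.normalClosure_le_normal (N := MonoidHom.ker ρ) (Set.singleton_subset_iff.2
          (MonoidHom.mem_ker.2 h)) (hgen.symm ▸ Subgroup.mem_top b))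
      simp only [hall, Finset.sum_const, Finset.card_univ] at hsum
      rw [← Nat.cast_smul_eq_nsmul K, smul_eq_zero] at hsum
      exact hsum.elim hcard one_ne_zero
    let Hk := MonoidHom.ker ρ
    let q := QuotientGroup.mk' Hk
    let ρ' : Representation K (G ⧸ Hk) V := QuotientGroup.lift Hk ρ le_rfl
    have hρ' : ∀ b, ρ' (q b) = ρ b := fun b => rfl
    have hinj : Function.Injective ρ' := by
      intro x y h
      obtain ⟨b, rfl⟩ := QuotientGroup.mk'_surjective Hk x
      obtain ⟨c, rfl⟩ := QuotientGroup.mk'_surjective Hk y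
      rw [hρ', hρ'] at h
      refine QuotientGroup.eq.2 (MonoidHom.mem_ker.2 ?_)
      rw [map_mul, ← h, ← map_mul, inv_mul_cancel, map_one]
    haveI : Group.IsSolvable (G ⧸ Hk) := Group.isSolvable_of_surjective (QuotientGroup.mk'_surjective Hk)
    have hirr' : Irr ρ' := fun W hW => hirr W fun b x hx => hW (q b) x hx
    have := core ρ' hirr' hinj (ℓ := ℓ) hp (q g) (by rw [← map_pow, hg, map_one])
      (fun h => hg1 (by rw [← hρ', h, map_one]))
      (by rw [← Set.image_singleton, ← Subgroup.map_normalClosure _ q (QuotientGroup.mk'_surjective Hk),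
        hgen, Subgroup.map_top_of_surjective q (QuotientGroup.mk'_surjective Hk)])
      (recBound_mono (Nat.card_le_card_of_surjective _ (QuotientGroup.mk'_surjective Hk)) hrec)
    rwa [hρ'] at this
  simp only [Irr, not_forall] at hirr
  obtain ⟨W, hW, hW'⟩ := hirr
  rw [not_or] at hW'
  let ρW : Representation K G W :=
    Subrepresentation.toRepresentation (ρ := ρ) ⟨W, fun b x hx => hW b x hx⟩
  let ρQ : Representation K G (V ⧸ W) := ρ.quotient W (fun b x hx => hW b x hx)
  have hadd := W.finrank_quotient_add_finrank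
  have hWpos : 0 < finrank K W := Submodule.one_le_finrank_iff.2 hW'.1
  have hQpos : 0 < finrank K (V ⧸ W) := by
    have := Submodule.finrank_lt hW'.2
    omega
  have h1 := ih _ (by omega) W ρW rfl hWpos (by
    refine LinearMap.ext fun x => Subtype.ext ?_
    have h := LinearMap.congr_fun hsum (x : V)
    rw [LinearMap.sum_apply] at h ⊢
    rw [Submodule.coe_sum]
    exact h)
  have h2 := ih _ (by omega) (V ⧸ W) ρQ rfl hQpos (by
    refine LinearMap.ext fun x => ?_
    obtain ⟨y, rfl⟩ := W.mkQ_surjective x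
    rw [LinearMap.sum_apply]
    show ∑ b : N, W.mkQ (ρ b y) = 0
    rw [← map_sum, ← LinearMap.sum_apply, hsum, LinearMap.zero_apply, map_zero])
  let F := LinearMap.ker (ρ g - LinearMap.id)
  let f : F →ₗ[K] (V ⧸ W) := W.mkQ ∘ₗ F.subtype
  have hfix : ∀ x : F, ρ g (x : V) = x := fun x => sub_eq_zero.1 (LinearMap.mem_ker.1 x.2)
  have hr : LinearMap.range f ≤ LinearMap.ker (ρQ g - LinearMap.id) := by
    rintro _ ⟨x, rfl⟩
    rw [LinearMap.mem_ker, LinearMap.sub_apply, sub_eq_zero]
    show W.mkQ (ρ g x) = W.mkQ x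
    rw [hfix]
  have hk : finrank K (LinearMap.ker f) ≤ finrank K (LinearMap.ker (ρW g - LinearMap.id)) := by
    have hmem : ∀ x : LinearMap.ker f, (x.1.1 : V) ∈ W := fun x =>
      (Submodule.Quotient.mk_eq_zero W).1 (LinearMap.mem_ker.1 x.2)
    let i : LinearMap.ker f →ₗ[K] LinearMap.ker (ρW g - LinearMap.id) :=
      { toFun := fun x => ⟨⟨x.1.1, hmem x⟩, by
          rw [LinearMap.mem_ker, LinearMap.sub_apply, sub_eq_zero]
          exact Subtype.ext (hfix x.1)⟩
        map_add' := fun x y => rfl
        map_smul' := fun c x => rfl }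
    refine LinearMap.finrank_le_finrank_of_injective (f := i) fun x y h => ?_
    exact Subtype.ext (Subtype.ext (congrArg (fun z => ((z : W) : V)) (congrArg Subtype.val h)))
  have h3 := f.finrank_range_add_finrank_ker
  have h4 := Submodule.finrank_mono hr
  show 2 * finrank K F < _
  omega

/-- The bound for an irreducible module on which the element acts nontrivially. -/
theorem bound_of_irr {k : Type w} [Field k] {ℓ : ℕ} [Fact ℓ.Prime] [CharP k ℓ] {G : Type u}
    [Group G] [Finite G] (hsol : Group.IsSolvable G) (hp : 3 < p) (g : G) (hg : g ^ p = 1)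
    (hgen : Subgroup.normalClosure {g} = ⊤) {V : Type v} [AddCommGroup V] [Module k V]
    [FiniteDimensional k V] (ρ : Representation k G V) (hirr : Irr ρ) (hg1 : ρ g ≠ 1)
    (hrec : RecBound.{u} p (Nat.card G)) :
    2 * finrank k (LinearMap.ker (ρ g - LinearMap.id)) < finrank k V := by
  classical
  haveI : Nontrivial V := by
    by_contra h
    rw [not_nontrivial_iff_subsingleton] at h
    exact hg1 (LinearMap.ext fun x => Subsingleton.elim _ _)
  let Hk := MonoidHom.ker ρ
  let q := QuotientGroup.mk' Hk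
  let ρ' : Representation k (G ⧸ Hk) V := QuotientGroup.lift Hk ρ le_rfl
  have hρ' : ∀ b, ρ' (q b) = ρ b := fun b => rfl
  have hinj : Function.Injective ρ' := by
    intro x y h
    obtain ⟨b, rfl⟩ := QuotientGroup.mk'_surjective Hk x
    obtain ⟨c, rfl⟩ := QuotientGroup.mk'_surjective Hk y
    rw [hρ', hρ'] at h
    refine QuotientGroup.eq.2 (MonoidHom.mem_ker.2 ?_)
    rw [map_mul, ← h, ← map_mul, inv_mul_cancel, map_one]
  haveI : Group.IsSolvable (G ⧸ Hk) :=
    Group.isSolvable_of_surjective (QuotientGroup.mk'_surjective Hk)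
  haveI : Nontrivial (G ⧸ Hk) := ⟨⟨q g, 1, fun h => hg1 (by rw [← hρ', h, map_one])⟩⟩
  obtain ⟨N, hN⟩ := CfsgLib.Base.exists_isMinimalNormal (G := G ⧸ Hk)
  haveI := hN.normal
  obtain ⟨r, hr, hNc, hNr, hNp⟩ := hN.exists_prime inferInstance
  haveI : Fintype N := Fintype.ofFinite N
  let F : Submodule k V := ⨅ x : N, LinearMap.ker (ρ' x - LinearMap.id)
  have hF : ∀ v, v ∈ F ↔ ∀ x : N, ρ' x v = v := by
    intro v; simp [F, Submodule.mem_iInf, sub_eq_zero]
  have hFbot : F = ⊥ := by
    refine (hirr F ?_).resolve_right ?_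
    · intro b v hv
      rw [hF] at hv ⊢
      intro x
      have hx : (q b)⁻¹ * x * q b ∈ N := by
        have h0 := hN.normal.conj_mem (x : G ⧸ Hk) x.2 (q b)⁻¹
        rwa [inv_inv] at h0
      rw [← hρ', ← rho_mul, show (x : G ⧸ Hk) * q b = q b * ((q b)⁻¹ * x * q b) by group, rho_mul,
        hv ⟨_, hx⟩]
    · intro htop
      refine hN.ne_bot ((Subgroup.eq_bot_iff_forall N).2 fun x hx => hinj ?_)
      rw [map_one]
      exact LinearMap.ext fun v => (hF v).1 (htop ▸ Submodule.mem_top) ⟨x, hx⟩
  have hrℓ : r ≠ ℓ := by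
    rintro rfl
    obtain ⟨v, hv, hfix⟩ := exists_fixed_vector ρ' N hNc hNr
    have : v ∈ F := (hF v).2 fun x => hfix x x.2
    rw [hFbot, Submodule.mem_bot] at this
    exact hv this
  have hsum : ∑ x : N, ρ' x = 0 := by
    refine LinearMap.ext fun v => ?_
    have : (∑ x : N, ρ' x) v ∈ F := by
      rw [hF]
      intro y
      rw [LinearMap.sum_apply, map_sum]
      refine Fintype.sum_equiv (Equiv.mulLeft y) _ _ fun x => ?_
      rw [Equiv.coe_mulLeft, Subgroup.coe_mul, rho_mul]
    rw [hFbot, Submodule.mem_bot] at this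
    exact this
  let K := AlgebraicClosure k
  haveI : CharP K ℓ := charP_of_injective_algebraMap (FaithfulSMul.algebraMap_injective k K) ℓ
  let ρK : Representation K (G ⧸ Hk) (K ⊗[k] V) :=
    (Module.End.baseChangeHom k K V).toRingHom.toMonoidHom.comp ρ'
  have hρK : ∀ b, ρK b = (ρ' b).baseChange K := fun b => rfl
  have hsumK : ∑ x : N, ρK x = 0 := by
    simp only [hρK]
    rw [show ∑ x : N, (ρ' x).baseChange K = (∑ x : N, ρ' x).baseChange K from
      (map_sum (Module.End.baseChangeHom k K V) (fun x : N => ρ' x) Finset.univ).symm, hsum,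
      LinearMap.baseChange_zero]
  have hcard : (Fintype.card N : K) ≠ 0 := by
    rw [Ne, CharP.cast_eq_zero_iff K ℓ, ← Nat.card_eq_fintype_card]
    intro hd
    haveI := Fact.mk hr
    obtain ⟨m, hm⟩ := IsPGroup.iff_card.1 hNp
    rw [hm] at hd
    exact hrℓ ((Nat.prime_dvd_prime_iff_eq Fact.out hr).1 ((Fact.out : ℓ.Prime).dvd_of_dvd_pow hd)).symm
  have h := bound_of_sum_eq_zero (K := K) (ℓ := ℓ) (inferInstance : Group.IsSolvable (G ⧸ Hk)) hp (q g)
    (by rw [← map_pow, hg, map_one])
    (by rw [← Set.image_singleton, ← Subgroup.map_normalClosure _ q (QuotientGroup.mk'_surjective Hk),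
      hgen, Subgroup.map_top_of_surjective q (QuotientGroup.mk'_surjective Hk)]) N hcard
    (recBound_mono (Nat.card_le_card_of_surjective _ (QuotientGroup.mk'_surjective Hk)) hrec)
    (finrank K (K ⊗[k] V)) (K ⊗[k] V) ρK rfl
    (by rw [Module.finrank_baseChange]; exact Module.finrank_pos) hsumK
  have hbc : (ρ g - LinearMap.id).baseChange K = ρK (q g) - LinearMap.id := by
    rw [LinearMap.baseChange_sub, LinearMap.baseChange_id, hρK, hρ']
  have e1 := (ρK (q g) - LinearMap.id).finrank_range_add_finrank_ker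
  have e2 := (ρ g - LinearMap.id).finrank_range_add_finrank_ker
  have e3 := CfsgLib.OddOrder.FrobeniusAction.finrank_range_baseChange K (ρ g - LinearMap.id)
  rw [hbc] at e3
  rw [Module.finrank_baseChange] at h e1
  omega

/-- The hypothesis of the recursion always holds. -/
theorem recBound_all (hp : 3 < p) : ∀ N : ℕ, RecBound.{u} p N := by
  intro N
  induction N with
  | zero => intro G _ _ h; exact absurd h (Nat.not_lt_zero _)
  | succ N ih =>
    intro G _ _ hG hsol g hg hgen r _ V _ _ _ ρ hirr hne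
    exact bound_of_irr (ℓ := r) hsol hp g hg hgen ρ hirr hne (recBound_mono (Nat.lt_succ_iff.1 hG) ih)

/-- An element of prime order p > 3 whose conjugates generate a solvable group fixes less than
half of each irreducible module on which it acts nontrivially. -/
theorem two_mul_finrank_fixed_lt {k : Type w} [Field k] {ℓ : ℕ} [Fact ℓ.Prime] [CharP k ℓ]
    {G : Type u} [Group G] [Finite G] (hsol : Group.IsSolvable G) (hp : 3 < p) (g : G)
    (hg : g ^ p = 1) (hgen : Subgroup.normalClosure {g} = ⊤) {V : Type v} [AddCommGroup V]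
    [Module k V] [FiniteDimensional k V] (ρ : Representation k G V) (hirr : Irr ρ) (hg1 : ρ g ≠ 1) :
    2 * finrank k (LinearMap.ker (ρ g - LinearMap.id)) < finrank k V :=
  bound_of_irr (ℓ := ℓ) hsol hp g hg hgen ρ hirr hg1 (recBound_all hp _)

end CfsgLib.Rep.SolvableFixed
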