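import Cfsg.Agent.Lib.Rep.FixedOrbit
import Cfsg.Agent.Lib.FgsC.BaseChangeRep

/-!
# The fixed space of an element of prime order p > 3 whose conjugates generate a solvable group

Such an element fixes less than half of every irreducible module on which it acts nontrivially.
Over an algebraically closed field one may assume that every abelian normal subgroup is scalar;
then a minimal normal subgroup `W/Z` of `G/Z` splits `End V` into equally large pieces permuted
by the element as it permutes `W/Z`.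
-/

set_option autoImplicit false
set_option linter.style.haveILetI false

namespace CfsgLib.Rep.SolvableFixed

open Module CfsgLib.Rep.FixedOrbit
open scoped commutatorElement

universe u v w

/-- No invariant submodules except the trivial ones. -/
def Irr {k : Type w} [Field k] {G : Type u} [Group G] {V : Type v} [AddCommGroup V] [Module k V]
    (ρ : Representation k G V) : Prop :=
  ∀ W : Submodule k V, (∀ (g : G) (x : V), x ∈ W → ρ g x ∈ W) → W = ⊥ ∨ W = ⊤

/-- The bound for modules over prime fields of groups of order less than `N`. -/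
def RecBound (p N : ℕ) : Prop :=
  ∀ (G : Type u) [Group G] [Finite G], Nat.card G < N → Group.IsSolvable G → ∀ g : G, g ^ p = 1 →
    Subgroup.normalClosure {g} = ⊤ → ∀ (r : ℕ) [Fact r.Prime] (V : Type u) [AddCommGroup V]
      [Module (ZMod r) V] [FiniteDimensional (ZMod r) V] (ρ : Representation (ZMod r) G V),
      Irr ρ → ρ g ≠ 1 →
        2 * finrank (ZMod r) (LinearMap.ker (ρ g - LinearMap.id)) < finrank (ZMod r) V

theorem rho_mul {k : Type w} [Field k] {G : Type u} [Group G] {V : Type v} [AddCommGroup V]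
    [Module k V] (ρ : Representation k G V) (a b : G) (x : V) : ρ (a * b) x = ρ a (ρ b x) := by
  rw [map_mul]; rfl

/-- Vectors with distinct joint eigenvalues are independent. -/
theorem eigen_indep {k : Type w} [Field k] {U : Type v} [AddCommGroup U] [Module k U] {ι X : Type*}
    [Fintype X] (T : ι → U →ₗ[k] U) (χ : X → ι → k) (hχ : Function.Injective χ) (c : X → U)
    (hc : ∀ x i, T i (c x) = χ x i • c x) (hsum : ∑ x, c x = 0) : ∀ x, c x = 0 := by
  classical
  suffices h : ∀ (s : Finset X) (c : X → U), (∀ x i, T i (c x) = χ x i • c x) →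
      ∑ x ∈ s, c x = 0 → ∀ x ∈ s, c x = 0 by
    exact fun x => h Finset.univ c hc hsum x (Finset.mem_univ x)
  intro s
  induction s using Finset.induction_on with
  | empty => intro c _ _ x hx; exact absurd hx (Finset.notMem_empty x)
  | insert x0 s hx0 ih =>
    intro c hc hsum
    rw [Finset.sum_insert hx0] at hsum
    have hs : ∀ y ∈ s, c y = 0 := by
      intro y hy
      obtain ⟨i, hi⟩ := Function.ne_iff.1 (hχ.ne (show y ≠ x0 from fun h => hx0 (h ▸ hy)))
      have h1 := congrArg (T i) hsum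
      rw [map_add, map_sum, map_zero, hc] at h1
      have h2 : χ x0 i • (c x0 + ∑ x ∈ s, c x) = 0 := by rw [hsum, smul_zero]
      rw [smul_add, Finset.smul_sum] at h2
      have h3 : ∑ x ∈ s, (χ x i - χ x0 i) • c x = 0 := by
        have h4 := sub_eq_zero.2 (h1.trans h2.symm)
        rw [add_sub_add_left_eq_sub, ← Finset.sum_sub_distrib] at h4
        rw [← h4]
        exact Finset.sum_congr rfl fun x _ => by rw [sub_smul, hc]
      have h5 := ih (fun x => (χ x i - χ x0 i) • c x)
        (fun x j => by rw [map_smul, hc, smul_comm]) h3 y hy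
      exact (smul_eq_zero.1 h5).resolve_left (sub_ne_zero.2 hi)
    intro x hx
    rcases Finset.mem_insert.1 hx with rfl | hx
    · rwa [Finset.sum_eq_zero hs, add_zero] at hsum
    · exact hs x hx

/-- The recursion for an abstract irreducible group of automorphisms. -/
theorem recursion_abstract {H : Type u} [Group H] [Finite H] {V : Type u} [CommGroup V] [Finite V]
    {p r : ℕ} [Fact r.Prime] (hexp : ∀ v : V, v ^ r = 1) (φ : H →* MulAut V) (g : H)
    (hg : g ^ p = 1) (hgen : Subgroup.normalClosure {g} = ⊤) (hsol : Group.IsSolvable H)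
    (hirr : ∀ K : Subgroup V, (∀ b, ∀ v ∈ K, φ b v ∈ K) → K = ⊥ ∨ K = ⊤) (hne : φ g ≠ 1) {N : ℕ}
    (hlt : Nat.card H < N) (hrec : RecBound.{u} p N) :
    ∃ n f, Nat.card V = r ^ n ∧ Nat.card {v : V // φ g v = v} = r ^ f ∧ 2 * f < n := by
  haveI := CfsgLib.FgsC.FrobeniusConfig.addModule (r := r) hexp
  let ρ : Representation (ZMod r) H (Additive V) :=
    (CfsgLib.FgsC.FrobeniusConfig.toEndHom (V := V) r).comp φ
  have happ : ∀ b e, ρ b e = Additive.ofMul (φ b (Additive.toMul e)) := fun b e => rfl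
  have hsub : Irr ρ := by
    intro W' hW'
    have h0 := hirr (AddSubgroup.toSubgroup' W'.toAddSubgroup)
      (fun b v hv => hW' b (Additive.ofMul v) hv)
    rcases h0 with h | h
    · left
      rw [Submodule.eq_bot_iff]
      intro e he
      have h1 : Additive.toMul e ∈ AddSubgroup.toSubgroup' W'.toAddSubgroup := he
      rw [h, Subgroup.mem_bot] at h1
      exact Additive.toMul.injective (h1.trans toMul_zero.symm)
    · right
      rw [eq_top_iff]
      intro e _
      exact (h.symm ▸ Subgroup.mem_top (Additive.toMul e) :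
        Additive.toMul e ∈ AddSubgroup.toSubgroup' W'.toAddSubgroup)
  have hgne : ρ g ≠ 1 := by
    intro h
    refine hne (MulEquiv.ext fun v => ?_)
    exact Additive.ofMul.injective (LinearMap.congr_fun h (Additive.ofMul v))
  haveI : Finite (Additive V) := inferInstanceAs (Finite V)
  haveI : Module.Finite (ZMod r) (Additive V) := Module.Finite.of_finite
  have h2f := hrec H hlt hsol g hg hgen r (Additive V) ρ hsub hgne
  refine ⟨finrank (ZMod r) (Additive V),
    finrank (ZMod r) (LinearMap.ker (ρ g - LinearMap.id)), ?_, ?_, h2f⟩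
  · have := Module.natCard_eq_pow_finrank (K := ZMod r) (V := Additive V)
    rwa [Nat.card_zmod] at this
  · have h5 := Module.natCard_eq_pow_finrank (K := ZMod r)
      (V := LinearMap.ker (ρ g - LinearMap.id))
    rw [Nat.card_zmod] at h5
    rw [← h5]
    refine Nat.card_congr (Additive.ofMul.subtypeEquiv fun e => ?_)
    rw [LinearMap.mem_ker, LinearMap.sub_apply, sub_eq_zero, LinearMap.id_apply, happ]
    exact Additive.ofMul.injective.eq_iff.symm

/-- The fixed points of the element on a minimal normal subgroup, by recursion. -/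
theorem recursion_step {Q : Type u} [Group Q] [Finite Q] [Group.IsSolvable Q] {p r : ℕ}
    (hr : r.Prime) (M : Subgroup Q) [M.Normal] [hMc : IsMulCommutative M]
    (hM : CfsgLib.Base.IsMinimalNormal M) (hMr : ∀ x ∈ M, x ^ r = 1) (hcard2 : Nat.card M ≠ r)
    (g : Q) (hg : g ^ p = 1) (hgen : Subgroup.normalClosure {g} = ⊤) {N : ℕ}
    (hlt : Nat.card (Q ⧸ M) < N) (hrec : RecBound.{u} p N) :
    ∃ n f, Nat.card M = r ^ n ∧
      Nat.card {e : M // (MulAut.conjNormal g : MulAut M) e = e} = r ^ f ∧ 2 * f < n := by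
  haveI := Fact.mk hr
  letI cgM : CommGroup M :=
    { (inferInstance : Group M) with mul_comm := fun a b => hMc.is_comm.comm a b }
  have hker : M ≤ (MulAut.conjNormal : Q →* MulAut M).ker := by
    intro b hb
    refine MonoidHom.mem_ker.2 (MulEquiv.ext fun e => Subtype.ext ?_)
    show b * (e : Q) * b⁻¹ = (e : Q)
    rw [show b * (e : Q) = (e : Q) * b from congrArg Subtype.val (hMc.is_comm.comm ⟨b, hb⟩ e),
      mul_inv_cancel_right]
  let φ : Q ⧸ M →* MulAut M := QuotientGroup.lift M MulAut.conjNormal hker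
  let q' := QuotientGroup.mk' M
  have hirr : ∀ K : Subgroup M, (∀ b, ∀ v ∈ K, φ b v ∈ K) → K = ⊥ ∨ K = ⊤ := by
    intro K hK
    have hKn : (K.map M.subtype).Normal := by
      refine ⟨?_⟩
      rintro _ ⟨e, he, rfl⟩ b
      exact ⟨(MulAut.conjNormal b : MulAut M) e, hK (q' b) e he, rfl⟩
    rcases hM.eq_bot_or_eq hKn (Subgroup.map_subtype_le K) with h | h
    · left
      exact (Subgroup.map_eq_bot_iff_of_injective K M.subtype_injective).1 h
    · right
      refine Subgroup.map_injective M.subtype_injective ?_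
      rw [h, ← MonoidHom.range_eq_map, Subgroup.range_subtype]
  have hne : φ (q' g) ≠ 1 := by
    intro h1
    have hcent : ∀ b : Q, (MulAut.conjNormal b : MulAut M) = 1 := fun b =>
      MonoidHom.mem_ker.1 (Subgroup.normalClosure_le_normal (N := (MulAut.conjNormal : Q →* MulAut M).ker)
        (Set.singleton_subset_iff.2 (MonoidHom.mem_ker.2 h1)) (hgen.symm ▸ Subgroup.mem_top b))
    obtain ⟨⟨e, he⟩, hne⟩ := Subgroup.ne_bot_iff_exists_ne_one.1 hM.ne_bot
    have hN : (Subgroup.zpowers e).Normal := by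
      refine ⟨fun z hz b => ?_⟩
      obtain ⟨i, rfl⟩ := Subgroup.mem_zpowers_iff.1 hz
      have h3 : b * e * b⁻¹ = e := congrArg Subtype.val (DFunLike.congr_fun (hcent b) (⟨e, he⟩ : M))
      rw [← conj_zpow, h3]
      exact zpow_mem (Subgroup.mem_zpowers _) i
    rcases hM.eq_bot_or_eq hN (Subgroup.zpowers_le.2 he) with h | h
    · exact hne (Subtype.ext (Subgroup.zpowers_eq_bot.1 h))
    · refine hcard2 ?_
      rw [← h, Nat.card_zpowers]
      exact orderOf_eq_prime (hMr _ he) (fun h' => hne (Subtype.ext h'))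
  have hgen1 : Subgroup.normalClosure {q' g} = ⊤ := by
    rw [← Set.image_singleton, ← Subgroup.map_normalClosure _ q' (QuotientGroup.mk'_surjective M),
      hgen, Subgroup.map_top_of_surjective q' (QuotientGroup.mk'_surjective M)]
  exact recursion_abstract (V := M) (fun v => Subtype.ext (by
    rw [SubmonoidClass.coe_pow]; exact hMr _ v.2)) φ (q' g) (by rw [← map_pow, hg, map_one]) hgen1
    (Group.isSolvable_of_surjective (QuotientGroup.mk'_surjective M)) hirr hne hlt hrec

section Core

variable {K : Type w} [Field K] [IsAlgClosed K] {G : Type u} [Group G] [Finite G] {V : Type v}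
  [AddCommGroup V] [Module K V] [FiniteDimensional K V] (ρ : Representation K G V)

/-- Commuting operators have a common eigenvector. -/
theorem exists_common_char [Nontrivial V] (A : Subgroup G) (hA : IsMulCommutative A) :
    ∃ χ : A →* Kˣ, ∃ w : V, w ≠ 0 ∧ ∀ a : A, ρ a w = (χ a : K) • w := by
  classical
  haveI := Fintype.ofFinite A
  have hcomm : ∀ a b : A, ∀ x, ρ a (ρ b x) = ρ b (ρ a x) := fun a b x => by
    rw [← rho_mul, ← rho_mul, show (a : G) * b = b * a from congrArg Subtype.val (hA.is_comm.comm a b)]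
  have hfin : ∀ s : Finset A, ∃ W : Submodule K V, W ≠ ⊥ ∧ (∀ (a : A), ∀ x ∈ W, ρ a x ∈ W) ∧
      ∀ a ∈ s, ∃ c : K, ∀ x ∈ W, ρ a x = c • x := by
    intro s
    induction s using Finset.induction_on with
    | empty => exact ⟨⊤, top_ne_bot, fun _ _ _ => trivial,
        fun a ha => absurd ha (Finset.notMem_empty a)⟩
    | insert a s _ ih =>
      obtain ⟨W, hW, hinv, hsc⟩ := ih
      haveI : Nontrivial W := Submodule.nontrivial_iff_ne_bot.2 hW
      obtain ⟨μ, hμ⟩ := Module.End.exists_eigenvalue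
        ((ρ a).restrict (fun x hx => hinv a x hx) : Module.End K W)
      obtain ⟨x, hx⟩ := hμ.exists_hasEigenvector
      have hx2 : ρ a (x : V) = μ • (x : V) := congrArg Subtype.val hx.apply_eq_smul
      refine ⟨W ⊓ LinearMap.ker (ρ a - μ • LinearMap.id), ?_, ?_, ?_⟩
      · refine (Submodule.ne_bot_iff _).2 ⟨x, ⟨x.2, ?_⟩, fun h => hx.2 (Subtype.ext h)⟩
        simp [hx2]
      · rintro b y ⟨hy, hy'⟩
        refine ⟨hinv b y hy, ?_⟩
        simp only [SetLike.mem_coe, LinearMap.mem_ker, LinearMap.sub_apply, LinearMap.smul_apply,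
          LinearMap.id_apply, sub_eq_zero] at hy' ⊢
        rw [hcomm a b, hy', map_smul]
      · intro b hb
        rcases Finset.mem_insert.1 hb with rfl | hb
        · refine ⟨μ, fun y hy => ?_⟩
          have := hy.2
          simpa [sub_eq_zero] using this
        · obtain ⟨c, hc⟩ := hsc b hb
          exact ⟨c, fun y hy => hc y hy.1⟩
  obtain ⟨W, hW, -, hsc⟩ := hfin Finset.univ
  obtain ⟨w, hw, hw0⟩ := (Submodule.ne_bot_iff W).1 hW
  choose c hc using fun a => hsc a (Finset.mem_univ a)
  have hc1 : ∀ a : A, ρ a w = c a • w := fun a => hc a w hw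
  have hone : c 1 = 1 := by
    refine smul_left_injective K hw0 ?_
    show c 1 • w = (1 : K) • w
    rw [← hc1, one_smul, OneMemClass.coe_one, map_one]
    rfl
  have hmul : ∀ a b, c (a * b) = c a * c b := by
    intro a b
    refine smul_left_injective K hw0 ?_
    show c (a * b) • w = (c a * c b) • w
    rw [← hc1, Subgroup.coe_mul, rho_mul, hc1 b, map_smul, hc1 a, smul_smul, mul_comm]
  let cH : A →* K := { toFun := c, map_one' := hone, map_mul' := hmul }
  exact ⟨cH.toHomUnits, w, hw0, hc1⟩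

variable {p : ℕ} [Fact p.Prime]

/-- An abelian normal subgroup is scalar, unless the bound holds already. -/
theorem scalar_or_bound (hirr : Irr ρ) [Nontrivial V] [Group.IsSolvable G] (hp : 3 < p) (g : G)
    (hg : g ^ p = 1) (hgen : Subgroup.normalClosure {g} = ⊤) (A : Subgroup G) [hAn : A.Normal]
    (hA : IsMulCommutative A) :
    (∀ a ∈ A, ∃ c : K, ρ a = c • LinearMap.id) ∨
      2 * finrank K (LinearMap.ker (ρ g - LinearMap.id)) < finrank K V := by
  classical
  obtain ⟨χ₀, w₀, hw₀, hχ₀⟩ := exists_common_char ρ A hA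
  let cA : G → A → A := fun b a => ⟨b⁻¹ * a * b, by simpa using hAn.conj_mem a a.2 b⁻¹⟩
  have cA1 : ∀ a, cA 1 a = a := fun a => Subtype.ext (by simp [cA])
  have cAc : ∀ b b' a, cA (b * b') a = cA b' (cA b a) := fun b b' a =>
    Subtype.ext (by simp [cA, mul_assoc])
  let act : MulAction G (A →* Kˣ) :=
    { smul := fun b χ => MonoidHom.mk' (fun a => χ (cA b a)) (fun a a' => by
        rw [← map_mul]
        congr 1
        exact Subtype.ext (by simp [cA, mul_assoc]))
      one_smul := fun χ => MonoidHom.ext fun a => congrArg χ (cA1 a)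
      mul_smul := fun b b' χ => MonoidHom.ext fun a => congrArg χ (cAc b b' a) }
  letI := act
  have smul_def : ∀ (b : G) (χ : A →* Kˣ) a, (b • χ) a = χ (cA b a) := fun _ _ _ => rfl
  let E : (A →* Kˣ) → Submodule K V := fun χ =>
    ⨅ a : A, LinearMap.ker (ρ a - (χ a : K) • LinearMap.id)
  have hE : ∀ χ x, x ∈ E χ ↔ ∀ a : A, ρ a x = (χ a : K) • x := by
    intro χ x
    simp [E, Submodule.mem_iInf, sub_eq_zero]
  have hmov : ∀ b χ x, x ∈ E χ → ρ b x ∈ E (b • χ) := by
    intro b χ x hx
    rw [hE] at hx ⊢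
    intro a
    rw [smul_def, ← rho_mul, show (a : G) * b = b * (cA b a : G) by simp [cA, mul_assoc], rho_mul,
      hx, map_smul]
  let H₀ := MulAction.stabilizer G χ₀
  let χ : G ⧸ H₀ → (A →* Kˣ) := MulAction.ofQuotientStabilizer G χ₀
  have hχi : Function.Injective χ := MulAction.injective_ofQuotientStabilizer G χ₀
  have hχs : ∀ (b : G) x, χ (b • x) = b • χ x := fun b x => MulAction.ofQuotientStabilizer_smul G χ₀ b x
  have hspan : ⨆ x, E (χ x) = ⊤ := by
    refine (hirr _ ?_).resolve_left ?_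
    · intro b x hx
      have hle : (⨆ y, E (χ y)) ≤ (⨆ y, E (χ y)).comap (ρ b) := iSup_le fun y z hz =>
        Submodule.mem_iSup_of_mem (b • y) (by rw [hχs]; exact hmov b _ z hz)
      exact hle hx
    · refine (Submodule.ne_bot_iff _).2 ⟨w₀, Submodule.mem_iSup_of_mem (QuotientGroup.mk 1) ?_, hw₀⟩
      show w₀ ∈ E ((1 : G) • χ₀)
      rw [one_smul]
      exact (hE _ _).2 hχ₀
  by_cases hH : H₀ = ⊤
  · left
    intro a ha
    refine ⟨(χ₀ ⟨a, ha⟩ : K), LinearMap.ext fun x => ?_⟩
    have htop : E χ₀ = ⊤ := by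
      rw [eq_top_iff, ← hspan]
      refine iSup_le fun y => ?_
      obtain ⟨b, rfl⟩ := QuotientGroup.mk_surjective y
      show E (b • χ₀) ≤ E χ₀
      rw [show b • χ₀ = χ₀ from MulAction.mem_stabilizer_iff.1
        (show b ∈ H₀ by rw [hH]; trivial)]
    exact (hE _ _).1 (htop ▸ Submodule.mem_top : x ∈ E χ₀) ⟨a, ha⟩
  right
  haveI : Fintype (G ⧸ H₀) := Fintype.ofFinite _
  let σ : Equiv.Perm (G ⧸ H₀) := MulAction.toPermHom G (G ⧸ H₀) g
  have hσ : σ ^ p = 1 := by
    show (MulAction.toPermHom G (G ⧸ H₀) g) ^ p = 1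
    rw [← map_pow, hg, map_one]
  have hdim : ∀ x, finrank K (E (χ x)) = finrank K (E χ₀) := by
    intro x
    obtain ⟨b, rfl⟩ := QuotientGroup.mk_surjective x
    show finrank K (E (b • χ₀)) = _
    let e : V ≃ₗ[K] V := LinearEquiv.ofLinear (ρ b) (ρ b⁻¹)
      (by rw [← Module.End.mul_eq_comp, ← map_mul, mul_inv_cancel, map_one]; rfl)
      (by rw [← Module.End.mul_eq_comp, ← map_mul, inv_mul_cancel, map_one]; rfl)
    have hmap : (E χ₀).map e.toLinearMap = E (b • χ₀) := by
      refine le_antisymm ?_ fun y hy => ?_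
      · rintro _ ⟨y, hy, rfl⟩
        exact hmov b _ y hy
      · refine ⟨ρ b⁻¹ y, ?_, ?_⟩
        · have := hmov b⁻¹ _ y hy
          rwa [inv_smul_smul] at this
        · show ρ b (ρ b⁻¹ y) = y
          rw [← rho_mul, mul_inv_cancel, map_one]; rfl
    rw [← hmap, LinearEquiv.finrank_map_eq]
  obtain ⟨hn, hc⟩ := finrank_fixed_le (fun x => E (χ x)) hspan
    (fun c hc hs => eigen_indep (fun a : A => ρ a) (fun x a => (χ x a : K))
      (fun x y h => hχi (MonoidHom.ext fun a => Units.ext (congrFun h a))) c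
      (fun x a => (hE _ _).1 (hc x) a) hs)
    hdim (ρ g) σ (fun x y hy => by
      show ρ g y ∈ E (χ (g • x))
      rw [hχs]
      exact hmov g _ y hy) (Fact.out : p.Prime) hσ
  have hF := four_mul_fixed_le hp g hg hgen H₀ hH
  rw [Nat.card_eq_fintype_card (α := G ⧸ H₀)] at hF
  have hpos : 0 < finrank K V := Module.finrank_pos
  set F := Nat.card {x : G ⧸ H₀ // g • x = x}
  set N := Fintype.card (G ⧸ H₀)
  set d := finrank K (E χ₀)
  set c := finrank K (LinearMap.ker (ρ g - LinearMap.id))
  have hc' : p * c ≤ d * ((p - 1) * F + N) := hc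
  obtain ⟨q, rfl⟩ : ∃ q, p = q + 4 := ⟨p - 4, by omega⟩
  rw [show q + 4 - 1 = q + 3 by omega] at hc'
  have h3 := Nat.mul_le_mul_left (d * (q + 3)) hF
  rw [hn] at hpos ⊢
  nlinarith [h3, hc', hpos]

/-- The bound over an algebraically closed field. -/
theorem core (hirr : Irr ρ) [Nontrivial V] [Group.IsSolvable G] (hρ : Function.Injective ρ) {ℓ : ℕ}
    [Fact ℓ.Prime] [CharP K ℓ] (hp : 3 < p) (g : G) (hg : g ^ p = 1) (hg1 : g ≠ 1)
    (hgen : Subgroup.normalClosure {g} = ⊤) (hrec : RecBound.{u} p (Nat.card G)) :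
    2 * finrank K (LinearMap.ker (ρ g - LinearMap.id)) < finrank K V := by
  classical
  by_contra hcon
  have hscal : ∀ (A : Subgroup G) [A.Normal], IsMulCommutative A → ∀ a ∈ A, ∃ c : K,
      ρ a = c • LinearMap.id := fun A _ hA =>
    (scalar_or_bound ρ hirr hp g hg hgen A hA).resolve_right hcon
  have hinvρ : ∀ a : G, ρ a * ρ a⁻¹ = 1 := fun a => by rw [← map_mul, mul_inv_cancel, map_one]
  have hinvρ' : ∀ a : G, ρ a⁻¹ * ρ a = 1 := fun a => by rw [← map_mul, inv_mul_cancel, map_one]
  have hne0 : ∀ a : G, ρ a ≠ 0 := fun a h => by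
    have h1 := hinvρ a
    rw [h, zero_mul] at h1
    exact zero_ne_one h1
  have huniq : ∀ (a : G) (c c' : K), c • ρ a = c' • ρ a → c = c' := fun a c c' h =>
    smul_left_injective K (hne0 a) h
  let Z : Subgroup G :=
    { carrier := {z | ∃ c : K, ρ z = c • (1 : Module.End K V)}
      one_mem' := ⟨1, by rw [map_one, one_smul]⟩
      mul_mem' := by
        rintro a b ⟨c, hc⟩ ⟨c', hc'⟩
        exact ⟨c * c', by rw [map_mul, hc, hc', smul_mul_smul_comm, one_mul]⟩
      inv_mem' := by
        rintro a ⟨c, hc⟩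
        refine ⟨c⁻¹, ?_⟩
        have h1 := hinvρ a
        rw [hc, smul_one_mul] at h1
        have hc0 : c ≠ 0 := by
          intro h0
          rw [h0, zero_smul] at h1
          exact zero_ne_one h1
        rw [eq_inv_smul_iff₀ hc0, h1] }
  have hZcomm : ∀ z ∈ Z, ∀ a : G, Commute z a := by
    rintro z ⟨c, hc⟩ a
    refine hρ ?_
    rw [map_mul, map_mul, hc, smul_one_mul, mul_smul_comm, mul_one]
  haveI hZn : Z.Normal := ⟨fun z hz a => by rwa [← (hZcomm z hz a).eq, mul_inv_cancel_right]⟩
  -- scalar elements of order ℓ are trivial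
  have hℓ : ∀ z ∈ Z, z ^ ℓ = 1 → z = 1 := by
    rintro z ⟨c, hc⟩ hz
    have h1 : ρ z ^ ℓ = 1 := by rw [← map_pow, hz, map_one]
    rw [hc, smul_pow, one_pow] at h1
    have h2 : c ^ ℓ = 1 := smul_left_injective K (one_ne_zero (α := Module.End K V))
      (h1.trans (one_smul K _).symm)
    haveI : ExpChar K ℓ := ExpChar.prime Fact.out
    have h3 : c = 1 := by
      refine frobenius_inj K ℓ ?_
      rw [frobenius_def, frobenius_def, one_pow, h2]
    exact hρ (by rw [hc, h3, one_smul, map_one])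
  by_cases hgZ : g ∈ Z
  · apply hcon
    obtain ⟨c, hc⟩ := hgZ
    have hc1 : c ≠ 1 := fun h => hg1 (hρ (by rw [hc, h, one_smul, map_one]))
    have hker : LinearMap.ker (ρ g - LinearMap.id) = ⊥ := by
      rw [LinearMap.ker_eq_bot']
      intro x hx
      rw [LinearMap.sub_apply, hc, LinearMap.smul_apply, Module.End.one_apply, LinearMap.id_apply] at hx
      have h2 : (c - 1) • x = 0 := by rw [sub_smul, one_smul, hx]
      exact (smul_eq_zero.1 h2).resolve_left (sub_ne_zero.2 hc1)
    rw [hker, finrank_bot, mul_zero]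
    exact Module.finrank_pos
  let q := QuotientGroup.mk' Z
  haveI : Group.IsSolvable (G ⧸ Z) := Group.isSolvable_of_surjective (QuotientGroup.mk'_surjective Z)
  haveI : Nontrivial (G ⧸ Z) := ⟨⟨q g, 1, fun h => hgZ ((QuotientGroup.eq_one_iff g).1 h)⟩⟩
  obtain ⟨M, hM⟩ := CfsgLib.Base.exists_isMinimalNormal (G := G ⧸ Z)
  haveI := hM.normal
  obtain ⟨r, hr, hMc, hMr, hMp⟩ := hM.exists_prime inferInstance
  haveI := Fact.mk hr
  haveI : IsMulCommutative M := hMc
  let W := M.comap q
  haveI hWn : W.Normal := inferInstance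
  have hWconj : ∀ (a : G), ∀ w ∈ W, a * w * a⁻¹ ∈ W := fun a w hw => hWn.conj_mem w hw a
  have hex : ∀ w x : W, ∃ c : K, ρ x * ρ w * ρ (x : G)⁻¹ = c • ρ w := by
    intro w x
    have hz : ⁅(x : G), (w : G)⁆ ∈ Z := by
      rw [← QuotientGroup.eq_one_iff]
      show q ⁅(x : G), (w : G)⁆ = 1
      rw [map_commutatorElement, commutatorElement_eq_one_iff_mul_comm]
      exact congrArg Subtype.val (hMc.is_comm.comm ⟨q x, x.2⟩ ⟨q w, w.2⟩)
    obtain ⟨c, hc⟩ := hz
    refine ⟨c, ?_⟩
    rw [← map_mul, ← map_mul, show (x : G) * w * (x : G)⁻¹ = ⁅(x : G), (w : G)⁆ * w by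
      rw [commutatorElement_def, inv_mul_cancel_right], map_mul, hc, smul_one_mul]
  choose C hC using hex
  have hC1 : ∀ w x, C w x = 1 → (x : G) * w = w * x := by
    intro w x h
    have h1 := hC w x
    rw [h, one_smul, ← map_mul, ← map_mul] at h1
    exact mul_inv_eq_iff_eq_mul.1 (hρ h1)
  have hCx : ∀ w x y, C w (x * y) = C w x * C w y := by
    intro w x y
    refine huniq w _ _ ?_
    rw [← hC, Subgroup.coe_mul, mul_inv_rev, map_mul, map_mul, mul_smul]
    calc ρ x * ρ y * ρ w * (ρ (y : G)⁻¹ * ρ (x : G)⁻¹)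
        = ρ x * (ρ y * ρ w * ρ (y : G)⁻¹) * ρ (x : G)⁻¹ := by simp only [mul_assoc]
      _ = _ := by rw [hC, mul_smul_comm, smul_mul_assoc, hC, smul_comm]
  have hCw : ∀ w w' x, C (w * w') x = C w x * C w' x := by
    intro w w' x
    refine huniq (w * w' : W) _ _ ?_
    rw [← hC, Subgroup.coe_mul, map_mul, ← smul_mul_smul_comm, ← hC, ← hC]
    simp only [← mul_assoc]
    rw [mul_assoc (ρ x * ρ w) (ρ (x : G)⁻¹) (ρ x), hinvρ', mul_one]
  have hCzw : ∀ w x : W, (w : G) ∈ Z → C w x = 1 := by
    intro w x hw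
    refine huniq w _ _ ?_
    rw [one_smul, ← hC, ← map_mul, ← map_mul, ← (hZcomm _ hw (x : G)).eq, mul_inv_cancel_right]
  have hCzx : ∀ w x : W, (x : G) ∈ Z → C w x = 1 := by
    intro w x hx
    refine huniq w _ _ ?_
    rw [one_smul, ← hC, ← map_mul, ← map_mul, (hZcomm _ hx (w : G)).eq, mul_inv_cancel_right]
  -- an element of W with trivial pairing is scalar
  let ZW : Subgroup G :=
    { carrier := {x | x ∈ W ∧ ∀ y ∈ W, x * y = y * x}
      one_mem' := ⟨W.one_mem, fun y _ => by rw [one_mul, mul_one]⟩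
      mul_mem' := fun {a b} ha hb => ⟨W.mul_mem ha.1 hb.1, fun y hy => by
        rw [mul_assoc, hb.2 y hy, ← mul_assoc, ha.2 y hy, mul_assoc]⟩
      inv_mem' := fun {a} ha => ⟨W.inv_mem ha.1, fun y hy => by
        rw [inv_mul_eq_iff_eq_mul, ← mul_assoc, ha.2 y hy, mul_inv_cancel_right]⟩ }
  haveI hZWn : ZW.Normal := by
    refine ⟨fun x hx a => ⟨hWconj a x hx.1, fun y hy => ?_⟩⟩
    have h1 := hx.2 (a⁻¹ * y * a) (by simpa using hWconj a⁻¹ y hy)
    calc a * x * a⁻¹ * y = a * (x * (a⁻¹ * y * a)) * a⁻¹ := by group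
      _ = a * (a⁻¹ * y * a * x) * a⁻¹ := by rw [h1]
      _ = y * (a * x * a⁻¹) := by group
  have hZW : ∀ x : G, x ∈ ZW → x ∈ Z := fun x hx =>
    hscal ZW ⟨⟨fun a b => Subtype.ext (a.2.2 b b.2.1)⟩⟩ x hx
  have hdegw : ∀ w : W, (∀ x, C w x = 1) → (w : G) ∈ Z := fun w h =>
    hZW w ⟨w.2, fun y hy => (hC1 w ⟨y, hy⟩ (h _)).symm⟩
  have hdegx : ∀ x : W, (∀ w, C w x = 1) → (x : G) ∈ Z := fun x h =>
    hZW x ⟨x.2, fun y hy => hC1 ⟨y, hy⟩ x (h _)⟩
  -- lifts of the elements of M
  let L : M → W := fun e => ⟨Quotient.out (e : G ⧸ Z),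
    show q (Quotient.out (e : G ⧸ Z)) ∈ M by
      rw [show q (Quotient.out (e : G ⧸ Z)) = e from QuotientGroup.out_eq' _]; exact e.2⟩
  have hL : ∀ e : M, q (L e : G) = e := fun e => QuotientGroup.out_eq' _
  have hlift : ∀ (e : M) (w : W), q (w : G) = e → ∀ x, C w x = C (L e) x := by
    intro e w hw x
    have hz : ((L e)⁻¹ * w : W).1 ∈ Z := by
      rw [Subgroup.coe_mul, Subgroup.coe_inv, ← QuotientGroup.eq_one_iff]
      show q ((L e : G)⁻¹ * w) = 1
      rw [map_mul, map_inv, hL, hw, inv_mul_cancel]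
    conv_lhs => rw [show w = L e * ((L e)⁻¹ * w) from (mul_inv_cancel_left _ _).symm, hCw,
      hCzw _ _ hz, mul_one]
  have hLmul : ∀ e e' x, C (L (e * e')) x = C (L e) x * C (L e') x := by
    intro e e' x
    rw [← hCw, hlift (e * e') (L e * L e') (by rw [Subgroup.coe_mul, map_mul, hL, hL, Subgroup.coe_mul])]
  have hL1 : ∀ x, C (L 1) x = 1 := fun x => by
    rw [← hlift 1 1 (by rw [OneMemClass.coe_one, map_one, OneMemClass.coe_one])]
    exact hCzw _ _ Z.one_mem
  have hMne : ∃ e : M, e ≠ 1 := by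
    obtain ⟨⟨e, he⟩, h⟩ := Subgroup.ne_bot_iff_exists_ne_one.1 hM.ne_bot
    exact ⟨⟨e, he⟩, h⟩
  have hCr : ∀ w x, C w x ^ r = 1 := by
    intro w x
    have hx : ((x ^ r : W) : G) ∈ Z := by
      rw [SubmonoidClass.coe_pow, ← QuotientGroup.eq_one_iff]
      show q ((x : G) ^ r) = 1
      rw [map_pow]
      exact hMr _ x.2
    rw [← hCzx w _ hx]
    let cH : W →* K := { toFun := C w, map_one' := hCzx w 1 Z.one_mem, map_mul' := hCx w }
    exact (map_pow cH x r).symm
  have hrℓ : r ≠ ℓ := by
    intro h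
    haveI : ExpChar K ℓ := ExpChar.prime Fact.out
    obtain ⟨e, he⟩ := hMne
    refine he (Subtype.ext ?_)
    rw [← hL e, OneMemClass.coe_one]
    refine (QuotientGroup.eq_one_iff _).2 (hdegw (L e) fun x => frobenius_inj K ℓ ?_)
    rw [frobenius_def, frobenius_def, one_pow, ← h, hCr]
  -- M has order at least r^2
  have hcard2 : Nat.card M ≠ r := by
    intro hcard
    obtain ⟨e, he⟩ := hMne
    refine he (Subtype.ext ?_)
    rw [← hL e, OneMemClass.coe_one]
    refine (QuotientGroup.eq_one_iff _).2 (hdegw (L e) fun x => ?_)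
    obtain ⟨i, hi⟩ := Subgroup.mem_zpowers_iff.1
      (mem_zpowers_of_prime_card hcard he : (⟨q x, x.2⟩ : M) ∈ Subgroup.zpowers e)
    have hz : (((L e) ^ i)⁻¹ * x : W).1 ∈ Z := by
      rw [Subgroup.coe_mul, Subgroup.coe_inv, Subgroup.coe_zpow, ← QuotientGroup.eq_one_iff]
      show q (((L e : G) ^ i)⁻¹ * x) = 1
      rw [map_mul, map_inv, map_zpow, hL, ← Subgroup.coe_zpow, hi, inv_mul_cancel]
    have hself : C (L e) (L e) = 1 := by
      refine huniq (L e) _ _ ?_
      rw [one_smul, ← hC, ← map_mul, ← map_mul, mul_inv_cancel_right]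
    rw [show x = (L e) ^ i * (((L e) ^ i)⁻¹ * x) from (mul_inv_cancel_left _ _).symm, hCx,
      hCzx _ _ hz, mul_one]
    let cH : W →* K :=
      { toFun := C (L e), map_one' := hCzx (L e) 1 Z.one_mem, map_mul' := hCx (L e) }
    have h1 := map_zpow cH.toHomUnits (L e) i
    have h2 := congrArg Units.val h1
    rw [show cH.toHomUnits (L e) = 1 from Units.ext hself, one_zpow] at h2
    exact h2
  -- the decomposition of the endomorphisms
  haveI : Fintype W := Fintype.ofFinite W
  haveI : Fintype M := Fintype.ofFinite M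
  let T : W → Module.End K V →ₗ[K] Module.End K V := fun x =>
    (LinearMap.mulLeft K (ρ x)).comp (LinearMap.mulRight K (ρ (x : G)⁻¹))
  have hT : ∀ x φ, T x φ = ρ x * φ * ρ (x : G)⁻¹ := fun x φ => (mul_assoc _ _ _).symm
  have hTmul : ∀ x y φ, T (x * y) φ = T x (T y φ) := by
    intro x y φ
    rw [hT, hT, hT, Subgroup.coe_mul, mul_inv_rev, map_mul, map_mul]
    simp only [mul_assoc]
  let S : M → Submodule K (Module.End K V) := fun e =>
    ⨅ x : W, LinearMap.ker (T x - C (L e) x • LinearMap.id)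
  have hS : ∀ e φ, φ ∈ S e ↔ ∀ x, T x φ = C (L e) x • φ := by
    intro e φ
    simp [S, Submodule.mem_iInf, sub_eq_zero]
  have hχinj : Function.Injective (fun (e : M) (x : W) => C (L e) x) := by
    intro e e' h
    have hall : ∀ x, C (L (e⁻¹ * e')) x = 1 := by
      intro x
      have h1 := hLmul e (e⁻¹ * e') x
      have hx : C (L e) x = C (L e') x := congrFun h x
      rw [mul_inv_cancel_left, ← hx] at h1
      have h0 : C (L e) x ≠ 0 := by
        intro h0
        have h2 := hLmul e e⁻¹ x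
        rw [mul_inv_cancel, hL1, h0, zero_mul] at h2
        exact one_ne_zero h2
      exact (mul_eq_left₀ h0).1 h1.symm
    have h3 := (QuotientGroup.eq_one_iff _).2 (hdegw _ hall)
    have h4 : ((e⁻¹ * e' : M) : G ⧸ Z) = 1 := (hL _).symm.trans h3
    exact inv_mul_eq_one.1 (Subtype.ext h4)
  have hspan : ⨆ e, S e = ⊤ := by
    rw [eq_top_iff]
    intro φ _
    let f : W → M →* K := fun x =>
      { toFun := fun e => C (L e) x⁻¹, map_one' := hL1 _, map_mul' := fun e e' => hLmul e e' _ }
    let ψ : M → Module.End K V := fun e => ∑ x, f x e • T x φ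
    have hψ : ∀ e, ψ e ∈ S e := by
      intro e
      rw [hS]
      intro y
      rw [map_sum, Finset.smul_sum]
      refine Fintype.sum_equiv (Equiv.mulLeft y) _ _ fun x => ?_
      rw [Equiv.coe_mulLeft, map_smul, hTmul, smul_smul]
      congr 1
      show C (L e) x⁻¹ = C (L e) y * C (L e) (y * x)⁻¹
      rw [mul_comm, ← hCx]
      congr 1
      group
    let Z₀ := Finset.univ.filter fun x : W => (x : G) ∈ Z
    have hsum : ∑ e, ψ e = ((Fintype.card M : K) * (Z₀.card : K)) • φ := by
      show ∑ e, ∑ x, f x e • T x φ = _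
      rw [Finset.sum_comm]
      simp_rw [← Finset.sum_smul]
      rw [← Finset.sum_subset (Finset.subset_univ Z₀) (fun x _ hx => ?_)]
      · rw [Finset.sum_congr rfl (g := fun _ => (Fintype.card M : K) • φ) (fun x hx => ?_),
          Finset.sum_const, ← Nat.cast_smul_eq_nsmul K, smul_smul, mul_comm]
        have hxZ : (x : G) ∈ Z := (Finset.mem_filter.1 hx).2
        have h1 : T x φ = φ := by
          obtain ⟨c, hc⟩ := hxZ
          rw [hT]
          have h2 := hinvρ (x : G)
          rw [hc, smul_one_mul] at h2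
          rw [hc, smul_one_mul, smul_mul_assoc, ← mul_smul_comm, h2, mul_one]
        rw [h1]
        congr 1
        refine (Finset.sum_eq_card_nsmul (b := (1 : K))
          (fun e _ => (hCzx (L e) x⁻¹ (Z.inv_mem hxZ) : f x e = 1))).trans ?_
        rw [Finset.card_univ, nsmul_one]
      · rw [sum_hom_units_eq_zero (f x), zero_smul]
        intro h
        refine hx (Finset.mem_filter.2 ⟨Finset.mem_univ x, ?_⟩)
        rw [← inv_mem_iff]
        refine hdegx x⁻¹ fun w => ?_
        rw [hlift ⟨q w, w.2⟩ w rfl]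
        exact DFunLike.congr_fun h _
    have hne : ((Fintype.card M : K) * (Z₀.card : K)) ≠ 0 := by
      refine mul_ne_zero ?_ ?_
      · rw [Ne, CharP.cast_eq_zero_iff K ℓ, ← Nat.card_eq_fintype_card]
        intro hd
        obtain ⟨m, hm⟩ := IsPGroup.iff_card.1 hMp
        rw [hm] at hd
        exact hrℓ (((Nat.prime_dvd_prime_iff_eq Fact.out hr).1
          ((Fact.out : ℓ.Prime).dvd_of_dvd_pow hd)).symm)
      · rw [Ne, CharP.cast_eq_zero_iff K ℓ]
        intro hd
        have hcardZ : Z₀.card = Nat.card (Z.subgroupOf W) := by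
          rw [Nat.card_eq_fintype_card]
          exact (Fintype.card_subtype _).symm.trans (Fintype.card_congr (Equiv.subtypeEquivRight
            fun x => Subgroup.mem_subgroupOf.symm))
        rw [hcardZ] at hd
        obtain ⟨x, hx⟩ := exists_prime_orderOf_dvd_card' ℓ hd
        have h1 : ((x : W) : G) = 1 := hℓ _ x.2 (by
          rw [← SubmonoidClass.coe_pow, ← SubmonoidClass.coe_pow,
            show x ^ ℓ = 1 from hx ▸ pow_orderOf_eq_one x, OneMemClass.coe_one, OneMemClass.coe_one])
        rw [show x = 1 from Subtype.ext (Subtype.ext h1), orderOf_one] at hx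
        exact (Fact.out : ℓ.Prime).ne_one hx.symm
    rw [← inv_smul_smul₀ hne φ, ← hsum]
    exact Submodule.smul_mem _ _ (Submodule.sum_mem _ fun e _ => Submodule.mem_iSup_of_mem e (hψ e))
  have hdim : ∀ e, finrank K (S e) = finrank K (S 1) := by
    intro e
    let lm : Module.End K V ≃ₗ[K] Module.End K V := LinearEquiv.ofLinear
      (LinearMap.mulLeft K (ρ (L e))) (LinearMap.mulLeft K (ρ (L e : G)⁻¹))
      (LinearMap.ext fun φ => by simp [← mul_assoc, hinvρ])
      (LinearMap.ext fun φ => by simp [← mul_assoc, hinvρ'])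
    have hkey : ∀ x φ, T x (ρ (L e) * φ) = C (L e) x • (ρ (L e) * T x φ) := by
      intro x φ
      rw [hT, hT, ← smul_mul_assoc, ← hC]
      simp only [← mul_assoc]
      rw [mul_assoc (ρ x * ρ (L e)) (ρ (x : G)⁻¹) (ρ x), hinvρ', mul_one]
    have hmap : (S 1).map lm.toLinearMap = S e := by
      refine le_antisymm ?_ fun φ hφ => ?_
      · rintro _ ⟨φ, hφ, rfl⟩
        rw [hS]
        intro x
        show T x (ρ (L e) * φ) = _
        rw [hkey, (hS _ _).1 hφ x, hL1, one_smul]
        rfl
      · refine ⟨ρ (L e : G)⁻¹ * φ, ?_, ?_⟩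
        · show _ ∈ S 1
          rw [hS]
          intro x
          have h1 : T x φ = C (L e) x • (ρ (L e) * T x (ρ (L e : G)⁻¹ * φ)) := by
            rw [← hkey, ← mul_assoc, hinvρ, one_mul]
          rw [(hS _ _).1 hφ x] at h1
          have h0 : C (L e) x ≠ 0 := by
            intro h0
            have h2 := hLmul e e⁻¹ x
            rw [mul_inv_cancel, hL1, h0, zero_mul] at h2
            exact one_ne_zero h2
          have h2 := smul_right_injective _ h0 h1
          rw [hL1, one_smul]
          calc T x (ρ (L e : G)⁻¹ * φ)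
              = ρ (L e : G)⁻¹ * (ρ (L e) * T x (ρ (L e : G)⁻¹ * φ)) := by
                rw [← mul_assoc, hinvρ', one_mul]
            _ = ρ (L e : G)⁻¹ * φ := by rw [← h2]
        · show ρ (L e) * (ρ (L e : G)⁻¹ * φ) = φ
          rw [← mul_assoc, hinvρ, one_mul]
    rw [← hmap, LinearEquiv.finrank_map_eq]
  let τ : Module.End K V →ₗ[K] Module.End K V :=
    (LinearMap.mulLeft K (ρ g)).comp (LinearMap.mulRight K (ρ g⁻¹))
  have hτ : ∀ φ, τ φ = ρ g * φ * ρ g⁻¹ := fun φ => (mul_assoc _ _ _).symm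
  let σA : MulAut M := MulAut.conjNormal (q g)
  let σ : Equiv.Perm M := σA.toEquiv
  have hσA : σA ^ p = 1 := by
    show (MulAut.conjNormal (q g)) ^ p = 1
    rw [← map_pow, ← map_pow, hg, map_one, map_one]
  have hσ : σ ^ p = 1 := by
    have hit : ∀ (n : ℕ) (e : M), (σ ^ n) e = (σA ^ n) e := by
      intro n
      induction n with
      | zero => intro e; rfl
      | succ n ih =>
        intro e
        rw [pow_succ', pow_succ', Equiv.Perm.mul_apply, MulAut.mul_apply, ih]
        rfl
    exact Equiv.ext fun e => by rw [hit, hσA]; rfl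
  have hmap : ∀ e, ∀ φ ∈ S e, τ φ ∈ S (σ e) := by
    intro e φ hφ
    rw [hS]
    intro x
    let y : W := ⟨g⁻¹ * x * g, by simpa using hWconj g⁻¹ x x.2⟩
    let w' : W := ⟨g * L e * g⁻¹, hWconj g _ (L e).2⟩
    have hw' : ∀ z, C w' z = C (L (σ e)) z := hlift (σ e) w' (by
      show q (g * L e * g⁻¹) = q g * (e : G ⧸ Z) * (q g)⁻¹
      rw [map_mul, map_mul, map_inv, hL])
    have hcc : C w' x = C (L e) y := by
      refine huniq w' _ _ ?_
      rw [← hC]
      show ρ x * ρ (g * L e * g⁻¹) * ρ (x : G)⁻¹ = C (L e) y • ρ (g * L e * g⁻¹)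
      rw [map_mul ρ (g * (L e : G)), map_mul ρ g, ← smul_mul_assoc, ← mul_smul_comm, ← hC]
      simp only [← map_mul]
      congr 1
      simp only [y]
      group
    rw [← hw', hcc, hτ, hT, ← smul_mul_assoc, ← mul_smul_comm, ← (hS _ _).1 hφ y, hT]
    calc ρ x * (ρ g * φ * ρ g⁻¹) * ρ (x : G)⁻¹
        = ρ ((x : G) * g) * φ * ρ (g⁻¹ * (x : G)⁻¹) := by
          rw [map_mul, map_mul]; simp only [mul_assoc]
      _ = ρ (g * (g⁻¹ * x * g)) * φ * ρ ((g⁻¹ * x * g)⁻¹ * g⁻¹) := by
          congr 2 <;> group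
      _ = _ := by
          rw [map_mul ρ g, map_mul ρ ((g⁻¹ * (x : G) * g)⁻¹)]; simp only [y, mul_assoc]
  obtain ⟨hn, hc⟩ := finrank_fixed_le S hspan
    (fun c hc hs => eigen_indep T (fun e x => C (L e) x) hχinj c (fun e x => (hS _ _).1 (hc e) x) hs)
    hdim τ σ hmap (Fact.out : p.Prime) hσ
  -- the fixed subgroup of M and its index
  let Cσ : Subgroup M :=
    { carrier := {e | σA e = e}
      one_mem' := map_one σA
      mul_mem' := fun {a b} ha hb => show σA (a * b) = a * b by rw [map_mul, ha, hb]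
      inv_mem' := fun {a} ha => show σA a⁻¹ = a⁻¹ by rw [map_inv, ha] }
  have hFix : Nat.card {e : M // σ e = e} = Nat.card Cσ := rfl
  obtain ⟨n, f, hnM, hfC, hfn⟩ := recursion_step hr M hM hMr hcard2 (q g)
    (by rw [← map_pow, hg, map_one])
    (by rw [← Set.image_singleton, ← Subgroup.map_normalClosure _ q (QuotientGroup.mk'_surjective Z),
      hgen, Subgroup.map_top_of_surjective q (QuotientGroup.mk'_surjective Z)])
    (N := Nat.card G) (by
      have h1 : Nat.card ((G ⧸ Z) ⧸ M) * Nat.card M = Nat.card (G ⧸ Z) :=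
        (Subgroup.card_eq_card_quotient_mul_card_subgroup M).symm
      have h2 : Nat.card (G ⧸ Z) ≤ Nat.card G :=
        Nat.card_le_card_of_surjective _ (QuotientGroup.mk'_surjective Z)
      have h3 : 1 < Nat.card M := M.one_lt_card_iff_ne_bot.2 hM.ne_bot
      have h4 : 0 < Nat.card ((G ⧸ Z) ⧸ M) := Nat.card_pos
      nlinarith) hrec
  have hn2 : 2 ≤ n := by
    by_contra hn2
    interval_cases n
    · omega
    · exact hcard2 (by rw [hnM, pow_one])
  have hfC' : Nat.card Cσ = r ^ f := hfC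
  have hk : Cσ.index = r ^ (n - f) := by
    refine Nat.eq_of_mul_eq_mul_left (Nat.card_pos (α := Cσ)) ?_
    rw [Cσ.card_mul_index, hnM, hfC', ← pow_add]
    congr 1
    omega
  have hI : 4 * ((p - 1) * Nat.card Cσ + Nat.card M) ≤ p * Nat.card M := by
    rw [← Cσ.card_mul_index]
    have hkey : 4 * (p - 1) + 4 * Cσ.index ≤ p * Cσ.index := by
      by_cases h16 : 16 ≤ Cσ.index
      · obtain ⟨t, rfl⟩ : ∃ t, p = t + 5 := ⟨p - 5, by
          have : p ≠ 4 := fun h => by
            have h4 : Nat.Prime 4 := h ▸ (Fact.out : p.Prime)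
            norm_num at h4
          omega⟩
        rw [show t + 5 - 1 = t + 4 by omega]
        nlinarith [Nat.mul_le_mul_left t h16]
      · have h2 : 2 ≤ n - f := by omega
        rw [hk] at h16
        have hr4 : r < 4 := by
          by_contra h4
          exact h16 (le_trans (by norm_num)
            ((Nat.pow_le_pow_left (show 4 ≤ r by omega) 2).trans (Nat.pow_le_pow_right hr.pos h2)))
        have hk4 : n - f < 4 := by
          by_contra h4
          exact h16 (le_trans (by norm_num) ((Nat.pow_le_pow_left hr.two_le 4).trans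
            (Nat.pow_le_pow_right hr.pos (show 4 ≤ n - f by omega))))
        have hp5 : p ≠ 4 := fun h => by
          have h4 : Nat.Prime 4 := h ▸ (Fact.out : p.Prime)
          norm_num at h4
        have hco : Cσ.index.Coprime p := by
          rw [hk]
          exact Nat.Coprime.pow_left _ ((Nat.coprime_primes hr Fact.out).2 (by omega))
        have hmod := index_fixed_mod σA hσA Cσ (fun _ => Iff.rfl) hco
        rw [Nat.ModEq, Nat.one_mod_eq_one.2 (Fact.out : p.Prime).ne_one] at hmod
        have hval : Cσ.index = 4 ∨ Cσ.index = 8 ∨ Cσ.index = 9 := by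
          rw [hk]
          have hr2 := hr.two_le
          interval_cases r <;> interval_cases h : (n - f) <;> simp_all
        have hle : p ≤ 8 := by
          have hd : p ∣ Cσ.index - 1 := by
            rw [← Nat.modEq_iff_dvd' (by omega)]
            show 1 % p = Cσ.index % p
            rw [hmod, Nat.one_mod_eq_one.2 (Fact.out : p.Prime).ne_one]
          have := Nat.le_of_dvd (by omega) hd
          omega
        rcases hval with hv | hv | hv <;> rw [hv] at hmod ⊢ <;> interval_cases p <;> omega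
    calc 4 * ((p - 1) * Nat.card Cσ + Nat.card Cσ * Cσ.index)
        = Nat.card Cσ * (4 * (p - 1) + 4 * Cσ.index) := by ring
      _ ≤ Nat.card Cσ * (p * Cσ.index) := Nat.mul_le_mul_left _ hkey
      _ = p * (Nat.card Cσ * Cσ.index) := by ring
  rw [hFix, ← Nat.card_eq_fintype_card] at hc
  rw [← Nat.card_eq_fintype_card, Module.finrank_linearMap] at hn
  -- at least one more than the square of the fixed space
  set Cf := LinearMap.ker (ρ g - LinearMap.id)
  set D := LinearMap.range (ρ g - LinearMap.id)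
  let Ψ : ((V ⧸ D) →ₗ[K] Cf) →ₗ[K] Module.End K V :=
    { toFun := fun φ => Cf.subtype ∘ₗ φ ∘ₗ D.mkQ
      map_add' := fun φ φ' => LinearMap.ext fun x => rfl
      map_smul' := fun c φ => LinearMap.ext fun x => rfl }
  have hΨ : Function.Injective Ψ := by
    intro φ φ' h
    refine Submodule.linearMap_qext D (LinearMap.ext fun x => Subtype.ext ?_)
    exact LinearMap.congr_fun h x
  have hmem : ∀ φ, Ψ φ ∈ LinearMap.ker (τ - LinearMap.id) := by
    intro φ
    rw [LinearMap.mem_ker, LinearMap.sub_apply, LinearMap.id_apply, sub_eq_zero, hτ]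
    refine LinearMap.ext fun x => ?_
    show ρ g ((φ (D.mkQ (ρ g⁻¹ x))) : V) = (φ (D.mkQ x) : V)
    rw [sub_eq_zero.1 (LinearMap.mem_ker.1 (φ (D.mkQ (ρ g⁻¹ x))).2), LinearMap.id_apply]
    congr 2
    rw [Submodule.mkQ_apply, Submodule.mkQ_apply, Submodule.Quotient.eq]
    refine ⟨-(ρ g⁻¹ x), ?_⟩
    rw [LinearMap.sub_apply, map_neg, ← rho_mul, mul_inv_cancel, map_one, LinearMap.id_apply]
    simp [sub_eq_add_neg, add_comm]
  have hid : (1 : Module.End K V) ∉ LinearMap.range Ψ := by
    rintro ⟨φ, hφ⟩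
    refine hg1 (hρ ?_)
    rw [map_one]
    refine LinearMap.ext fun x => ?_
    have h1 := LinearMap.congr_fun hφ x
    rw [Module.End.one_apply] at h1 ⊢
    have h2 : ρ g (φ (D.mkQ x) : V) = (φ (D.mkQ x) : V) :=
      sub_eq_zero.1 (LinearMap.mem_ker.1 (φ (D.mkQ x)).2)
    have h3 : (φ (D.mkQ x) : V) = x := h1
    rwa [h3] at h2
  have hlt : LinearMap.range Ψ < LinearMap.ker (τ - LinearMap.id) := by
    refine lt_of_le_of_ne ?_ (fun h => hid ?_)
    · rintro _ ⟨φ, rfl⟩; exact hmem φ
    · rw [h, LinearMap.mem_ker, LinearMap.sub_apply, LinearMap.id_apply, sub_eq_zero, hτ, mul_one, hinvρ]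
  have h1 := Submodule.finrank_lt_finrank_of_lt hlt
  have hq : finrank K (V ⧸ D) = finrank K Cf := by
    have e1 := D.finrank_quotient_add_finrank
    have e2 := (ρ g - LinearMap.id).finrank_range_add_finrank_ker
    change finrank K D + finrank K Cf = finrank K V at e2
    omega
  rw [LinearMap.finrank_range_of_inj hΨ, Module.finrank_linearMap, hq] at h1
  set c := finrank K Cf
  set d := finrank K (S 1)
  set D₁ := finrank K (LinearMap.ker (τ - LinearMap.id))
  set N := finrank K V
  have h3 : 4 * (p * D₁) ≤ p * (N * N) :=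
    calc 4 * (p * D₁) ≤ 4 * (d * ((p - 1) * Nat.card Cσ + Nat.card M)) := Nat.mul_le_mul_left 4 hc
      _ = d * (4 * ((p - 1) * Nat.card Cσ + Nat.card M)) := by ring
      _ ≤ d * (p * Nat.card M) := Nat.mul_le_mul_left d hI
      _ = p * (N * N) := by rw [hn]; ring
  have h4 : 4 * D₁ ≤ N * N := by
    refine Nat.le_of_mul_le_mul_left ?_ (Fact.out : p.Prime).pos
    calc p * (4 * D₁) = 4 * (p * D₁) := by ring
      _ ≤ _ := h3
  apply hcon
  nlinarith

end Core

end CfsgLib.Rep.SolvableFixed
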