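import Cfsg.Agent.Lib.Rep.SolvableFixedBound
import Cfsg.Agent.Lib.Coprime.Action
import Cfsg.Agent.Lib.Coprime.Basic
import Cfsg.Agent.Lib.Base.Fitting

/-!
# Maximal solvable subgroups generated by two conjugates of an element of order p > 3

If `A = ⟨P, P^a⟩` is maximal among such solvable subgroups then its normal `r`-subgroups
centralize every `q`-subgroup normalized by `A`, for `q ≠ r`.
-/

set_option autoImplicit false
set_option linter.style.haveILetI false

namespace CfsgLib.Rep.TwoConjugateGenerated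

open Subgroup
open scoped commutatorElement

universe u

/-- The fixed subgroups of two conjugate elements do not cover an irreducible module. -/
theorem exists_not_product_of_fixed {H : Type u} [Group H] [Finite H] {V : Type u} [CommGroup V]
    [Finite V] {p r : ℕ} [Fact p.Prime] [Fact r.Prime] (hp : 3 < p) (hsol : Group.IsSolvable H)
    (hexp : ∀ v : V, v ^ r = 1) (φ : H →* MulAut V) (g a : H) (hg : g ^ p = 1)
    (hgen : Subgroup.normalClosure {g} = ⊤)
    (hirr : ∀ K : Subgroup V, (∀ b, ∀ v ∈ K, φ b v ∈ K) → K = ⊥ ∨ K = ⊤) (hne : φ g ≠ 1) :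
    ∃ v : V, ∀ u₁ u₂ : V, φ g u₁ = u₁ → φ (a * g * a⁻¹) u₂ = u₂ → v ≠ u₁ * u₂ := by
  classical
  obtain ⟨n, f, hn, hf, hfn⟩ := SolvableFixed.recursion_abstract hexp φ g hg hgen hsol hirr hne
    (Nat.lt_succ_self (Nat.card H)) (SolvableFixed.recBound_all hp _)
  by_contra hcon
  push Not at hcon
  let m : {v : V // φ g v = v} × {v : V // φ g v = v} → V := fun z => z.1 * φ a z.2
  have hm : Function.Surjective m := by
    intro v
    obtain ⟨u₁, u₂, h₁, h₂, rfl⟩ := hcon v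
    refine ⟨(⟨u₁, h₁⟩, ⟨(φ a)⁻¹ u₂, ?_⟩), ?_⟩
    · rw [map_mul, map_mul, map_inv, MulAut.mul_apply, MulAut.mul_apply] at h₂
      refine (φ a).injective ?_
      rw [h₂, MulAut.apply_inv_self]
    · show u₁ * φ a ((φ a)⁻¹ u₂) = u₁ * u₂
      rw [MulAut.apply_inv_self]
  have h := Nat.card_le_card_of_surjective m hm
  rw [Nat.card_prod, hn, hf, ← pow_add] at h
  have := (Nat.pow_le_pow_iff_right (Fact.out : r.Prime).one_lt).1 h
  omega

variable {G : Type u} [Group G] [Finite G]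

/-- The main step. -/
theorem le_centralizer {p : ℕ} [Fact p.Prime] (hp : 3 < p) (P : Subgroup G) (hP : Nat.card P = p)
    (A : Subgroup G) (hAs : Group.IsSolvable A) {a : G} (haA : a ∈ A)
    (hAgen : A = P ⊔ P.map (MulAut.conj a).toMonoidHom)
    (hmax : ∀ B : Subgroup G, A ≤ B → Group.IsSolvable ↥B →
      (∃ b ∈ B, B = P ⊔ P.map (MulAut.conj b).toMonoidHom) → B = A)
    {r q : ℕ} [Fact r.Prime] [Fact q.Prime] (hrq : r ≠ q) (R : Subgroup G) (hRA : R ≤ A)
    (hR : IsPGroup r R) (hAR : A ≤ Subgroup.normalizer (R : Set G)) (Q : Subgroup G)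
    (hQ : IsPGroup q Q) (hAQ : A ≤ Subgroup.normalizer (Q : Set G)) :
    Q ≤ Subgroup.centralizer (R : Set G) := by
  classical
  by_contra hcon
  obtain ⟨W, hWQ, ⟨hAW, hWR⟩, hmin⟩ : ∃ W ≤ Q, (A ≤ Subgroup.normalizer (W : Set G) ∧
      ¬ W ≤ Subgroup.centralizer (R : Set G)) ∧ ∀ K : Subgroup G, K ≤ W →
      A ≤ Subgroup.normalizer (K : Set G) → ¬ K ≤ Subgroup.centralizer (R : Set G) → K = W := by
    obtain ⟨W, hle, hW⟩ := Finite.exists_le_minimal
      (p := fun K : Subgroup G => A ≤ Subgroup.normalizer (K : Set G) ∧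
        ¬ K ≤ Subgroup.centralizer (R : Set G)) (a := Q) ⟨hAQ, hcon⟩
    exact ⟨W, hle, hW.1, fun K hK h1 h2 => le_antisymm hK (hW.2 ⟨h1, h2⟩ hK)⟩
  have hWq : IsPGroup q W := hQ.to_le hWQ
  have hconjA : ∀ {K : Subgroup G}, A ≤ Subgroup.normalizer (K : Set G) → ∀ x ∈ A, ∀ k ∈ K,
      x * k * x⁻¹ ∈ K := fun hK x hx k hk => (Subgroup.mem_normalizer_iff.1 (hK hx) k).1 hk
  have hcop : (Nat.card R).Coprime (Nat.card W) := IsPGroup.coprime_card_of_ne r q hrq R W hR hWq
  have hRW : R ≤ Subgroup.normalizer (W : Set G) := hRA.trans hAW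
  -- W = [W, R]
  have hWRW : ⁅W, R⁆ = W := by
    refine hmin _ (CfsgLib.Coprime.commutator_le_of_le_normalizer hRW) ?_ ?_
    · intro x hx
      rw [Subgroup.mem_normalizer_iff]
      intro k
      have hmap : ∀ y ∈ A, ⁅W, R⁆.map (MulAut.conj y).toMonoidHom ≤ ⁅W, R⁆ := by
        intro y hy
        rw [Subgroup.map_commutator]
        refine Subgroup.commutator_mono ?_ ?_
        · rintro _ ⟨w, hw, rfl⟩; exact hconjA hAW y hy w hw
        · rintro _ ⟨w, hw, rfl⟩; exact hconjA hAR y hy w hw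
      refine ⟨fun hk => hmap x hx ⟨k, hk, rfl⟩, fun hk => ?_⟩
      obtain h := hmap x⁻¹ (inv_mem hx) ⟨_, hk, rfl⟩
      simpa [mul_assoc] using h
    · intro h
      have h1 := Subgroup.commutator_eq_bot_iff_le_centralizer.2 h
      rw [CfsgLib.Coprime.commutator_commutator_eq hRW hcop
        (Or.inr (by haveI := hWq.isNilpotent; infer_instance))] at h1
      exact hWR (Subgroup.commutator_eq_bot_iff_le_centralizer.1 h1)
  let W₀ : Subgroup G := W ⊓ Subgroup.centralizer (R : Set G)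
  have hW₀W : W₀ ≤ W := inf_le_left
  have hW₀R : W₀ ≤ Subgroup.centralizer (R : Set G) := inf_le_right
  have hAW₀ : A ≤ Subgroup.normalizer (W₀ : Set G) := by
    intro x hx
    rw [Subgroup.mem_normalizer_iff]
    have key : ∀ y ∈ A, ∀ k ∈ W₀, y * k * y⁻¹ ∈ W₀ := by
      intro y hy k hk
      refine ⟨hconjA hAW y hy k hk.1, fun z hz => ?_⟩
      have h1 := hk.2 _ (hconjA hAR y⁻¹ (inv_mem hy) z hz)
      rw [inv_inv] at h1
      calc z * (y * k * y⁻¹) = y * ((y⁻¹ * z * y) * k) * y⁻¹ := by group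
        _ = y * (k * (y⁻¹ * z * y)) * y⁻¹ := by rw [h1]
        _ = y * k * y⁻¹ * z := by group
    refine fun k => ⟨key x hx k, fun hk => ?_⟩
    have := key x⁻¹ (inv_mem hx) _ hk
    simpa [mul_assoc] using this
  -- the proper A-invariant subgroups of W lie in W₀
  have huniq : ∀ K : Subgroup G, K ≤ W → A ≤ Subgroup.normalizer (K : Set G) →
      K ≤ W₀ ∨ K = W := fun K hK hA =>
    (em (K ≤ Subgroup.centralizer (R : Set G))).imp (fun h => le_inf hK h) (hmin K hK hA)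
  have hW₀ne : W₀ ≠ W := fun h => hWR (h ▸ hW₀R)
  haveI := hWq.isNilpotent
  have hWn₀ : W ≤ Subgroup.normalizer (W₀ : Set G) := by
    have hlt : W₀.subgroupOf W < ⊤ := lt_top_iff_ne_top.2 fun h =>
      hW₀ne (le_antisymm hW₀W (Subgroup.subgroupOf_eq_top.1 h))
    have h1 := normalizerCondition_of_isNilpotent (G := W) _ hlt
    let K := W ⊓ Subgroup.normalizer (W₀ : Set G)
    have hK : ¬ K ≤ W₀ := by
      intro hle
      refine h1.2 fun w hw => ?_
      refine (hle (Subgroup.mem_inf.2 ⟨w.2, ?_⟩) : (w : G) ∈ W₀)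
      rw [Subgroup.mem_normalizer_iff] at hw ⊢
      intro k
      refine ⟨fun hk => ?_, fun hk => ?_⟩
      · exact (hw ⟨k, hk.1⟩).1 hk
      · have hkW : k ∈ W := by
          have h := mul_mem (mul_mem (inv_mem w.2) hk.1) w.2
          simpa [mul_assoc] using h
        exact (hw ⟨k, hkW⟩).2 hk
    have hAK : A ≤ Subgroup.normalizer (K : Set G) :=
      le_trans (le_inf hAW (hAW₀.trans Subgroup.le_normalizer))
        (Subgroup.inf_normalizer_le_normalizer_inf)
    exact fun w hw => (((huniq K inf_le_left hAK).resolve_left hK).ge hw).2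
  -- W₀ is central in W
  have hW₀cent : ∀ w ∈ W, ∀ z ∈ W₀, w * z = z * w := by
    have h1 : ⁅⁅W₀, W⁆, R⁆ = ⊥ := by
      rw [Subgroup.commutator_eq_bot_iff_le_centralizer]
      exact (CfsgLib.Coprime.commutator_le_of_le_normalizer hWn₀).trans hW₀R
    have h2 : ⁅⁅R, W₀⁆, W⁆ = ⊥ := by
      rw [show ⁅R, W₀⁆ = ⊥ from by
        rw [Subgroup.commutator_comm]; exact Subgroup.commutator_eq_bot_iff_le_centralizer.2 hW₀R,
        Subgroup.commutator_bot_left]
    have h3 : ⁅⁅W, R⁆, W₀⁆ = ⊥ := Subgroup.commutator_commutator_eq_bot_of_rotate h2 h1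
    rw [hWRW, Subgroup.commutator_eq_bot_iff_le_centralizer] at h3
    exact fun w hw z hz => (h3 hw z hz).symm
  -- A ⊔ W
  let X := A ⊔ W
  have hXW : X ≤ Subgroup.normalizer (W : Set G) := sup_le hAW Subgroup.le_normalizer
  have hXW₀ : X ≤ Subgroup.normalizer (W₀ : Set G) := sup_le hAW₀ hWn₀
  have hXmem : ∀ x ∈ X, ∃ b ∈ A, ∃ w ∈ W, b * w = x := fun x hx =>
    (CfsgLib.Coprime.mem_sup_iff_of_le_normalizer hAW).1 hx
  have hconjX : ∀ x ∈ X, ∀ w ∈ W, x * w * x⁻¹ ∈ W := fun x hx w hw =>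
    (Subgroup.mem_normalizer_iff.1 (hXW hx) w).1 hw
  -- A meets W in W₀
  have hAinfW : A ⊓ W ≤ W₀ := by
    refine (huniq (A ⊓ W) inf_le_right ((le_inf Subgroup.le_normalizer hAW).trans
      Subgroup.inf_normalizer_le_normalizer_inf)).resolve_right fun h => hWR ?_
    have hWA : W ≤ A := h ▸ inf_le_left
    intro w hw z hz
    have hb : ⁅z, w⁆ ∈ R ⊓ W := by
      refine ⟨?_, ?_⟩
      · rw [commutatorElement_def, show z * w * z⁻¹ * w⁻¹ = z * (w * z⁻¹ * w⁻¹) by group]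
        exact R.mul_mem hz (hconjA hAR w (hWA hw) _ (R.inv_mem hz))
      · exact W.mul_mem (hconjA hAW z (hRA hz) w hw) (W.inv_mem hw)
    rw [CfsgLib.Coprime.inf_eq_bot_of_coprime hcop, Subgroup.mem_bot,
      commutatorElement_eq_one_iff_mul_comm] at hb
    exact hb
  -- the module W / W₀
  let W₀' := W₀.subgroupOf X
  haveI hW₀'n : W₀'.Normal := Subgroup.normal_subgroupOf_of_le_normalizer hXW₀
  haveI hW'n : (W.subgroupOf X).Normal := Subgroup.normal_subgroupOf_of_le_normalizer hXW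
  let π := QuotientGroup.mk' W₀'
  let M : Subgroup (X ⧸ W₀') := (W.subgroupOf X).map π
  haveI hMn : M.Normal := hW'n.map π (QuotientGroup.mk'_surjective W₀')
  let inW : ∀ w ∈ W, X := fun w hw => ⟨w, (le_sup_right : W ≤ X) hw⟩
  let mk : ∀ w ∈ W, M := fun w hw => ⟨π (inW w hw), ⟨inW w hw, hw, rfl⟩⟩
  have hmk_surj : ∀ m : M, ∃ w, ∃ hw : w ∈ W, mk w hw = m := by
    rintro ⟨_, ⟨⟨w, hwX⟩, hw, rfl⟩⟩
    exact ⟨w, hw, rfl⟩
  have hmk_eq : ∀ v w (hv : v ∈ W) (hw : w ∈ W), mk v hv = mk w hw ↔ v⁻¹ * w ∈ W₀ := by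
    intro v w hv hw
    rw [Subtype.ext_iff]
    exact QuotientGroup.eq
  have hder : ∀ v ∈ W, ∀ w ∈ W, ⁅v, w⁆ ∈ W₀ := by
    have hlt : ⁅W, W⁆ ≠ W := fun h =>
      hW₀ne (le_antisymm hW₀W (by
        have hb : W = ⊥ := by
          by_contra hWb
          exact (CfsgLib.Base.commutator_self_lt_of_isSolvable hWb inferInstance).ne h
        rw [hb]; exact bot_le))
    have hA' : A ≤ Subgroup.normalizer ((⁅W, W⁆ : Subgroup G) : Set G) := by
      intro x hx
      have hmap : ∀ y ∈ A, ⁅W, W⁆.map (MulAut.conj y).toMonoidHom ≤ ⁅W, W⁆ := by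
        intro y hy
        rw [Subgroup.map_commutator]
        refine Subgroup.commutator_mono ?_ ?_ <;>
          · rintro _ ⟨w, hw, rfl⟩; exact hconjA hAW y hy w hw
      rw [Subgroup.mem_normalizer_iff]
      refine fun k => ⟨fun hk => hmap x hx ⟨k, hk, rfl⟩, fun hk => ?_⟩
      obtain h := hmap x⁻¹ (inv_mem hx) ⟨_, hk, rfl⟩
      simpa [mul_assoc] using h
    have := (huniq _ (Subgroup.commutator_le_self W) hA').resolve_right hlt
    exact fun v hv w hw => this (Subgroup.commutator_mem_commutator hv hw)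
  have hpowq : ∀ w ∈ W, w ^ q ∈ W₀ := by
    let D : Subgroup G :=
      { carrier := {w | w ∈ W ∧ w ^ q ∈ W₀}
        one_mem' := ⟨W.one_mem, by rw [one_pow]; exact W₀.one_mem⟩
        mul_mem' := by
          rintro v w ⟨hv, hv'⟩ ⟨hw, hw'⟩
          refine ⟨W.mul_mem hv hw, ?_⟩
          have hvw : Commute (mk v hv) (mk w hw) := by
            refine Subtype.ext ?_
            show π (inW v hv) * π (inW w hw) = π (inW w hw) * π (inW v hv)
            rw [← commutatorElement_eq_one_iff_mul_comm, ← map_commutatorElement]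
            exact (QuotientGroup.eq_one_iff _).2 (hder v hv w hw)
          have h1 : ∀ z (hz : z ∈ W), z ^ q ∈ W₀ ↔ (mk z hz) ^ q = 1 := by
            intro z hz
            rw [Subtype.ext_iff, SubmonoidClass.coe_pow, OneMemClass.coe_one]
            show _ ↔ (π (inW z hz)) ^ q = 1
            rw [← map_pow]
            exact (QuotientGroup.eq_one_iff (N := W₀') ((inW z hz) ^ q)).symm
          rw [h1 _ (W.mul_mem hv hw), show mk (v * w) (W.mul_mem hv hw) = mk v hv * mk w hw from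
            Subtype.ext (map_mul π (inW v hv) (inW w hw)), hvw.mul_pow, (h1 v hv).1 hv',
            (h1 w hw).1 hw', one_mul]
        inv_mem' := fun {w} hw => ⟨W.inv_mem hw.1, by rw [inv_pow]; exact W₀.inv_mem hw.2⟩ }
    have hDW : D ≤ W := fun w hw => hw.1
    have hAD : A ≤ Subgroup.normalizer (D : Set G) := by
      intro x hx
      rw [Subgroup.mem_normalizer_iff]
      have key : ∀ y ∈ A, ∀ k ∈ D, y * k * y⁻¹ ∈ D := fun y hy k hk =>
        ⟨hconjA hAW y hy k hk.1, by rw [conj_pow]; exact hconjA hAW₀ y hy _ hk.2⟩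
      refine fun k => ⟨key x hx k, fun hk => ?_⟩
      have := key x⁻¹ (inv_mem hx) _ hk
      simpa [mul_assoc] using this
    have hD : ¬ D ≤ W₀ := by
      intro hle
      obtain ⟨w, hw, hw0⟩ : ∃ w ∈ W, w ∉ W₀ :=
        SetLike.exists_of_lt (lt_of_le_of_ne hW₀W hW₀ne)
      obtain ⟨k, hk⟩ := IsPGroup.iff_orderOf.1 hWq ⟨w, hw⟩
      rw [← Subgroup.orderOf_coe] at hk
      have hex : ∃ j, w ^ q ^ j ∈ W₀ := ⟨k, by rw [← hk, pow_orderOf_eq_one]; exact W₀.one_mem⟩
      have h0 : Nat.find hex ≠ 0 := fun h => hw0 (by simpa [h] using Nat.find_spec hex)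
      obtain ⟨j, hj⟩ := Nat.exists_eq_succ_of_ne_zero h0
      refine Nat.find_min hex (show j < Nat.find hex by omega) (hle ⟨pow_mem hw _, ?_⟩)
      have hs := Nat.find_spec hex
      rwa [hj, pow_succ, pow_mul] at hs
    exact fun w hw => ((((huniq D hDW hAD).resolve_left hD).ge hw).2)
  haveI hMc : IsMulCommutative M := by
    refine ⟨⟨fun x y => ?_⟩⟩
    obtain ⟨v, hv, rfl⟩ := hmk_surj x
    obtain ⟨w, hw, rfl⟩ := hmk_surj y
    refine Subtype.ext ?_
    show π (inW v hv) * π (inW w hw) = π (inW w hw) * π (inW v hv)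
    rw [← commutatorElement_eq_one_iff_mul_comm, ← map_commutatorElement]
    exact (QuotientGroup.eq_one_iff _).2 (hder v hv w hw)
  letI cgM : CommGroup M :=
    { (inferInstance : Group M) with mul_comm := fun x y => hMc.is_comm.comm x y }
  have hexp : ∀ m : M, m ^ q = 1 := by
    intro m
    obtain ⟨w, hw, rfl⟩ := hmk_surj m
    refine Subtype.ext ?_
    rw [SubmonoidClass.coe_pow, OneMemClass.coe_one]
    show (π (inW w hw)) ^ q = 1
    rw [← map_pow]
    exact (QuotientGroup.eq_one_iff (N := W₀') ((inW w hw) ^ q)).2 (hpowq w hw)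
  let φ : A →* MulAut M :=
    (MulAut.conjNormal : X ⧸ W₀' →* MulAut M).comp (π.comp (Subgroup.inclusion le_sup_left))
  have hφ : ∀ (x : A) w (hw : w ∈ W), φ x (mk w hw) = mk _ (hconjA hAW x x.2 w hw) := by
    intro x w hw
    refine Subtype.ext ?_
    show π (Subgroup.inclusion le_sup_left x) * π (inW w hw) * (π (Subgroup.inclusion le_sup_left x))⁻¹ =
      π (inW _ (hconjA hAW x x.2 w hw))
    rw [← map_inv, ← map_mul, ← map_mul]
    rfl
  have hfixmk : ∀ (x : A) w (hw : w ∈ W), φ x (mk w hw) = mk w hw ↔ ⁅w⁻¹, (x : G)⁆ ∈ W₀ := by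
    intro x w hw
    rw [hφ x w hw, eq_comm, hmk_eq w ((x : G) * w * (x : G)⁻¹) hw (hconjA hAW x x.2 w hw), show w⁻¹ * ((x : G) * w * (x : G)⁻¹) = ⁅w⁻¹, (x : G)⁆ by
      rw [commutatorElement_def]; group]
  have hirr : ∀ K : Subgroup M, (∀ b, ∀ v ∈ K, φ b v ∈ K) → K = ⊥ ∨ K = ⊤ := by
    intro K hK
    let K' : Subgroup G := ((K.map M.subtype).comap π).map X.subtype
    have hmem : ∀ w, w ∈ K' ↔ ∃ hw : w ∈ W, mk w hw ∈ K := by
      intro w
      constructor
      · rintro ⟨⟨z, hzX⟩, ⟨m, hm, hmz⟩, rfl⟩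
        obtain ⟨v, hv, rfl⟩ := hmk_surj m
        have hz0 : v⁻¹ * z ∈ W₀ := (QuotientGroup.eq (s := W₀')
          (a := inW v hv) (b := ⟨z, hzX⟩)).1 hmz
        have hzW : z ∈ W := by simpa using W.mul_mem hv (hW₀W hz0)
        exact ⟨hzW, ((hmk_eq v z hv hzW).2 hz0) ▸ hm⟩
      · rintro ⟨hw, h⟩
        exact ⟨inW w hw, ⟨_, h, rfl⟩, rfl⟩
    have hK'W : K' ≤ W := fun w hw => ((hmem w).1 hw).1
    have hAK : A ≤ Subgroup.normalizer (K' : Set G) := by
      intro x hx
      rw [Subgroup.mem_normalizer_iff]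
      have key : ∀ y ∈ A, ∀ k ∈ K', y * k * y⁻¹ ∈ K' := by
        intro y hy k hk
        obtain ⟨hkW, hkK⟩ := (hmem k).1 hk
        refine (hmem _).2 ⟨hconjA hAW y hy k hkW, ?_⟩
        rw [← hφ ⟨y, hy⟩ k hkW]
        exact hK _ _ hkK
      refine fun k => ⟨key x hx k, fun hk => ?_⟩
      have := key x⁻¹ (inv_mem hx) _ hk
      simpa [mul_assoc] using this
    rcases huniq K' hK'W hAK with h | h
    · left
      rw [Subgroup.eq_bot_iff_forall]
      intro m hm
      obtain ⟨w, hw, rfl⟩ := hmk_surj m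
      have : w ∈ W₀ := h ((hmem w).2 ⟨hw, hm⟩)
      refine Subtype.ext ?_
      exact (QuotientGroup.eq_one_iff (N := W₀') (inW w hw)).2 this
    · right
      rw [eq_top_iff]
      intro m _
      obtain ⟨w, hw, rfl⟩ := hmk_surj m
      exact ((hmem w).1 (h.ge hw)).2
  -- a generator of P
  obtain ⟨g, hg⟩ : ∃ g : P, g ≠ 1 := by
    haveI : Nontrivial P := Finite.one_lt_card_iff_nontrivial.1 (hP ▸ (Fact.out : p.Prime).one_lt)
    exact exists_ne 1
  have hPg : P = Subgroup.zpowers (g : G) := by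
    refine le_antisymm (fun x hx => ?_) (Subgroup.zpowers_le.2 g.2)
    obtain ⟨i, hi⟩ := Subgroup.mem_zpowers_iff.1 (mem_zpowers_of_prime_card hP hg :
      (⟨x, hx⟩ : P) ∈ Subgroup.zpowers g)
    exact ⟨i, (congrArg Subtype.val hi)⟩
  have hPA : P ≤ A := hAgen ▸ le_sup_left
  let g' : A := ⟨g, hPA g.2⟩
  let a' : A := ⟨a, haA⟩
  have hgp : g' ^ p = 1 := Subtype.ext (by
    show (g : G) ^ p = 1
    rw [← SubmonoidClass.coe_pow, ← hP, pow_card_eq_one']; rfl)
  have hgen : Subgroup.normalClosure {g'} = ⊤ := by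
    refine Subgroup.map_injective A.subtype_injective (le_antisymm ?_ ?_)
    · exact Subgroup.map_mono le_top
    rw [← MonoidHom.range_eq_map, Subgroup.range_subtype]
    conv_lhs => rw [hAgen]
    have hN := (Subgroup.normalClosure_normal (s := ({g'} : Set A)))
    refine sup_le ?_ ?_
    · rw [hPg, Subgroup.zpowers_le]
      exact ⟨g', Subgroup.subset_normalClosure (Set.mem_singleton _), rfl⟩
    · rw [hPg, MonoidHom.map_zpowers, Subgroup.zpowers_le]
      exact ⟨a' * g' * a'⁻¹, hN.conj_mem _ (Subgroup.subset_normalClosure (Set.mem_singleton _)) a', rfl⟩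
  have hne : φ g' ≠ 1 := by
    intro h
    have hall : ∀ x : A, φ x = 1 := fun x => MonoidHom.mem_ker.1
      (Subgroup.normalClosure_le_normal (N := φ.ker) (Set.singleton_subset_iff.2
        (MonoidHom.mem_ker.2 h)) (hgen.symm ▸ Subgroup.mem_top x))
    have hle : ⁅W, R⁆ ≤ W₀ := by
      rw [Subgroup.commutator_le]
      intro w hw x hx
      have h1 := (hfixmk ⟨x, hRA hx⟩ w⁻¹ (W.inv_mem hw)).1 (by rw [hall]; rfl)
      rwa [inv_inv] at h1
    rw [hWRW] at hle
    exact hW₀ne (le_antisymm hW₀W hle)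
  obtain ⟨m, hm⟩ := exists_not_product_of_fixed hp hAs hexp φ g' a' hgp hgen hirr hne
  obtain ⟨w', hw'W, rfl⟩ := hmk_surj m
  -- the candidate
  let b := w' * a
  have hwX : w' ∈ X := (le_sup_right : W ≤ X) hw'W
  have haX : a ∈ X := (le_sup_left : A ≤ X) haA
  have hbX : b ∈ X := X.mul_mem hwX haX
  let B : Subgroup G := P ⊔ P.map (MulAut.conj b).toMonoidHom
  have hgb : b * g * b⁻¹ ∈ B := Subgroup.mem_sup_right ⟨g, g.2, rfl⟩
  have hBX : B ≤ X := by
    refine sup_le (hPA.trans le_sup_left) ?_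
    rintro _ ⟨x, hx, rfl⟩
    exact X.mul_mem (X.mul_mem hbX ((le_sup_left : A ≤ X) (hPA hx))) (X.inv_mem hbX)
  have hBW : A ≤ B ⊔ W := by
    conv_lhs => rw [hAgen]
    refine sup_le (le_sup_left.trans le_sup_left) ?_
    rintro _ ⟨x, hx, rfl⟩
    show a * x * a⁻¹ ∈ B ⊔ W
    rw [show a * x * a⁻¹ = w'⁻¹ * (b * x * b⁻¹) * w' by simp only [b]; group]
    exact mul_mem (mul_mem (Subgroup.mem_sup_right (W.inv_mem hw'W))
      (Subgroup.mem_sup_left (Subgroup.mem_sup_right ⟨x, hx, rfl⟩))) (Subgroup.mem_sup_right hw'W)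
  have hBnW : B ≤ Subgroup.normalizer (W : Set G) := hBX.trans hXW
  by_cases hBW₀ : B ⊓ W ≤ W₀
  · -- B is contained in a conjugate of A W₀
    let B₁ := B ⊔ W₀
    have hBnW₀ : B ≤ Subgroup.normalizer (W₀ : Set G) := hBX.trans hXW₀
    have hB₁W : B₁ ⊓ W ≤ W₀ := by
      rintro x ⟨hx, hxW⟩
      obtain ⟨c, hc, z, hz, rfl⟩ := (CfsgLib.Coprime.mem_sup_iff_of_le_normalizer hBnW₀).1 hx
      refine W₀.mul_mem (hBW₀ ⟨hc, ?_⟩) hz
      simpa using W.mul_mem hxW (W.inv_mem (hW₀W hz))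
    let RW := R ⊔ W
    let S₁ := B₁ ⊓ RW
    have hS₁W : S₁ ⊓ W ≤ W₀ := fun x hx => hB₁W ⟨hx.1.1, hx.2⟩
    -- a Sylow r-subgroup of S₁ is a Sylow r-subgroup of R W
    obtain ⟨T⟩ := (inferInstance : Nonempty (Sylow r S₁))
    let R₁ : Subgroup G := (T : Subgroup S₁).map S₁.subtype
    have hS₁cent : ∀ x ∈ S₁, ∀ z ∈ W₀, x * z = z * x := by
      intro x hx z hz
      obtain ⟨c, hc, v, hv, rfl⟩ := (CfsgLib.Coprime.mem_sup_iff_of_le_normalizer hRW).1 hx.2
      rw [mul_assoc, hW₀cent v hv z hz, ← mul_assoc, hW₀R hz c hc, mul_assoc]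
    have hS₁mem : ∀ x ∈ S₁, ∃ c ∈ R₁, ∃ z ∈ W₀, c * z = x := by
      let Z₀ := W₀.subgroupOf S₁
      haveI : Z₀.Normal := ⟨fun z hz x => by
        show (x : G) * z * (x : G)⁻¹ ∈ W₀
        rw [hS₁cent x x.2 z hz, mul_inv_cancel_right]
        exact hz⟩
      have hquot : IsPGroup r (S₁ ⧸ Z₀) := by
        intro x
        obtain ⟨⟨x, hxB, hxRW⟩, rfl⟩ := QuotientGroup.mk_surjective x
        obtain ⟨k, hk⟩ : ∃ k : ℕ, x ^ r ^ k ∈ W := by
          obtain ⟨c, hc, v, hv, rfl⟩ := (CfsgLib.Coprime.mem_sup_iff_of_le_normalizer hRW).1 hxRW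
          obtain ⟨k, hk⟩ := hR ⟨c, hc⟩
          refine ⟨k, ?_⟩
          haveI := Subgroup.normal_subgroupOf_of_le_normalizer
            (show RW ≤ Subgroup.normalizer (W : Set G) from sup_le hRW Subgroup.le_normalizer)
          let ψ := QuotientGroup.mk' (W.subgroupOf RW)
          have hvker : ψ ⟨v, Subgroup.mem_sup_right hv⟩ = 1 := (QuotientGroup.eq_one_iff _).2 hv
          have hck : (c : G) ^ r ^ k = 1 := congrArg Subtype.val hk
          have h2 : ψ (⟨c * v, hxRW⟩ ^ r ^ k) = 1 := by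
            rw [map_pow, show (⟨c * v, hxRW⟩ : RW) = ⟨c, Subgroup.mem_sup_left hc⟩ * ⟨v, Subgroup.mem_sup_right hv⟩ from rfl,
              map_mul, hvker, mul_one, ← map_pow,
              show (⟨c, Subgroup.mem_sup_left hc⟩ : RW) ^ r ^ k = 1 from Subtype.ext hck, map_one]
          exact (QuotientGroup.eq_one_iff (N := W.subgroupOf RW) ((⟨c * v, hxRW⟩ : RW) ^ r ^ k)).1 h2
        refine ⟨k, ?_⟩
        rw [← QuotientGroup.mk_pow, QuotientGroup.eq_one_iff]
        exact hS₁W ⟨pow_mem (show x ∈ S₁ from ⟨hxB, hxRW⟩) _, hk⟩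
      have htop : (T : Subgroup S₁) ⊔ Z₀ = ⊤ := by
        rw [← Subgroup.index_eq_one]
        by_contra hne
        obtain ⟨ℓ, hℓ, hd⟩ := Nat.exists_prime_and_dvd hne
        have h1 : ℓ ∣ Z₀.index := hd.trans (Subgroup.index_dvd_of_le le_sup_right)
        rw [Subgroup.index_eq_card] at h1
        obtain ⟨k, hk⟩ := IsPGroup.iff_card.1 hquot
        rw [hk] at h1
        have := (Nat.prime_dvd_prime_iff_eq hℓ Fact.out).1 (hℓ.dvd_of_dvd_pow h1)
        subst this
        exact T.not_dvd_index (hd.trans (Subgroup.index_dvd_of_le le_sup_left))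
      intro x hx
      obtain ⟨c, hc, z, hz, he⟩ := Subgroup.mem_sup_of_normal_right.1
        (htop ▸ Subgroup.mem_top (⟨x, hx⟩ : S₁))
      exact ⟨c, ⟨c, hc, rfl⟩, z, hz, congrArg Subtype.val he⟩
    have hR₁r : IsPGroup r R₁ := T.isPGroup'.map _
    have hR₁le : R₁ ≤ RW := fun x hx => (Subgroup.map_subtype_le _ hx).2
    have hR₁cover : ∀ c ∈ R, ∃ c₁ ∈ R₁, ∃ v ∈ W, c₁ * v = c := by
      intro c hc
      have hcX : c ∈ B ⊔ W := hBW (hRA hc)
      obtain ⟨d, hd, v, hv, rfl⟩ := (CfsgLib.Coprime.mem_sup_iff_of_le_normalizer hBnW).1 hcX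
      have hdRW : d ∈ RW := by
        have h := RW.mul_mem (Subgroup.mem_sup_left hc : d * v ∈ RW)
          (RW.inv_mem (Subgroup.mem_sup_right hv))
        simpa using h
      obtain ⟨c₁, hc₁, z, hz, hcz⟩ := hS₁mem d ⟨Subgroup.mem_sup_left hd, hdRW⟩
      exact ⟨c₁, hc₁, z * v, W.mul_mem (hW₀W hz) hv, by rw [← mul_assoc, hcz]⟩
    -- conjugate to R by an element of W
    obtain ⟨v, hvW, hvR⟩ : ∃ v ∈ W, R₁ = R.map (MulAut.conj v).toMonoidHom := by
      have hRle : R ≤ RW := le_sup_left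
      have hsyl : ∀ S : Subgroup G, IsPGroup r S → S ≤ RW →
          (∀ c ∈ R, ∃ c₁ ∈ S, ∃ v ∈ W, c₁ * v = c) → ∃ U : Sylow r RW, (U : Subgroup RW) = S.subgroupOf RW := by
        intro S hS hSle hcov
        have hndvd : ¬ r ∣ (S.subgroupOf RW).index := by
          intro hd
          have hcoverRW : ∀ x ∈ RW, ∃ c₁ ∈ S, ∃ v ∈ W, c₁ * v = x := by
            intro x hx
            obtain ⟨c, hc, v, hv, rfl⟩ := (CfsgLib.Coprime.mem_sup_iff_of_le_normalizer hRW).1 hx
            obtain ⟨c₁, hc₁, v₁, hv₁, rfl⟩ := hcov c hc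
            exact ⟨c₁, hc₁, v₁ * v, W.mul_mem hv₁ hv, by rw [mul_assoc]⟩
          have htop : S.subgroupOf RW ⊔ W.subgroupOf RW = ⊤ := by
            rw [eq_top_iff]
            intro x _
            obtain ⟨c₁, hc₁, v, hv, he⟩ := hcoverRW x x.2
            rw [show x = (⟨c₁, hSle hc₁⟩ : RW) * ⟨v, Subgroup.mem_sup_right hv⟩ from Subtype.ext he.symm]
            exact mul_mem (Subgroup.mem_sup_left hc₁) (Subgroup.mem_sup_right hv)
          haveI : (W.subgroupOf RW).Normal := Subgroup.normal_subgroupOf_of_le_normalizer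
            (sup_le hRW Subgroup.le_normalizer)
          have h1 : (S.subgroupOf RW).index ∣ Nat.card (W.subgroupOf RW) := by
            have h4 := CfsgLib.Coprime.card_sup_mul_card_inf (H := S.subgroupOf RW)
              (N := W.subgroupOf RW) (Subgroup.normalizer_eq_top (H := W.subgroupOf RW) ▸ le_top)
            rw [htop, Subgroup.card_top, ← (S.subgroupOf RW).card_mul_index, mul_assoc] at h4
            exact Dvd.intro _ (Nat.eq_of_mul_eq_mul_left Nat.card_pos h4)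
          have h2 : r ∣ Nat.card W := by
            have h3 := hd.trans h1
            rwa [Nat.card_congr (Subgroup.subgroupOfEquivOfLe
              (le_sup_right : W ≤ RW)).toEquiv] at h3
          obtain ⟨k, hk⟩ := IsPGroup.iff_card.1 hWq
          rw [hk] at h2
          exact hrq ((Nat.prime_dvd_prime_iff_eq Fact.out Fact.out).1
            ((Fact.out : r.Prime).dvd_of_dvd_pow h2))
        exact ⟨(hS.comap_of_injective _ RW.subtype_injective).toSylow hndvd, rfl⟩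
      obtain ⟨U₁, hU₁⟩ := hsyl R₁ hR₁r hR₁le hR₁cover
      obtain ⟨U, hU⟩ := hsyl R hR hRle (fun c hc => ⟨c, hc, 1, W.one_mem, mul_one c⟩)
      obtain ⟨x, hx⟩ := MulAction.exists_smul_eq RW U U₁
      obtain ⟨c, hc, v, hv, hcv⟩ := (CfsgLib.Coprime.mem_sup_iff_of_le_normalizer hRW).1 x.2
      have hxU : R₁ = R.map (MulAut.conj (x : G)).toMonoidHom := by
        have h0 := congrArg (fun S : Subgroup RW => S.map RW.subtype)
          (congrArg (fun S : Sylow r RW => (S : Subgroup RW)) hx)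
        simp only [Sylow.coe_subgroup_smul, hU, hU₁] at h0
        rw [Subgroup.map_subgroupOf_eq_of_le hR₁le] at h0
        rw [← h0]
        ext y
        constructor
        · rintro ⟨_, ⟨z, hz, rfl⟩, rfl⟩
          exact ⟨z, hz, rfl⟩
        · rintro ⟨z, hz, rfl⟩
          exact ⟨_, ⟨⟨z, hRle hz⟩, hz, rfl⟩, rfl⟩
      refine ⟨c * v * c⁻¹, hconjA hAW c (hRA hc) v hv, ?_⟩
      rw [hxU, ← hcv]
      ext y
      constructor
      · rintro ⟨z, hz, rfl⟩
        refine ⟨c * z * c⁻¹, R.mul_mem (R.mul_mem hc hz) (R.inv_mem hc), ?_⟩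
        simp only [MulEquiv.coe_toMonoidHom, MulAut.conj_apply]
        group
      · rintro ⟨z, hz, rfl⟩
        refine ⟨c⁻¹ * z * c, R.mul_mem (R.mul_mem (R.inv_mem hc) hz) hc, ?_⟩
        simp only [MulEquiv.coe_toMonoidHom, MulAut.conj_apply]
        group
    -- B normalizes R₁
    have hR₁norm : ∀ x ∈ B, ∀ c ∈ R₁, x * c * x⁻¹ ∈ R₁ := by
      intro x hx c hc
      have hcS : c ∈ S₁ := Subgroup.map_subtype_le _ hc
      have hxRW : x * c * x⁻¹ ∈ RW := by
        obtain ⟨d, hd, z, hz, hdz⟩ := (CfsgLib.Coprime.mem_sup_iff_of_le_normalizer hRW).1 hcS.2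
        obtain ⟨e, he, t, ht, het⟩ := hXmem x (hBX hx)
        rw [← hdz, show x * (d * z) * x⁻¹ = (x * d * x⁻¹) * (x * z * x⁻¹) by group, ← het,
          show e * t * d * (e * t)⁻¹ = (e * d * e⁻¹) * (e * (d⁻¹ * t * d * t⁻¹) * e⁻¹) by group]
        refine RW.mul_mem (RW.mul_mem (Subgroup.mem_sup_left (hconjA hAR e he d hd))
          (Subgroup.mem_sup_right (hconjA hAW e he _ (W.mul_mem ?_ (W.inv_mem ht)))))
          (Subgroup.mem_sup_right ?_)
        · simpa using hconjA hAW d⁻¹ (A.inv_mem (hRA hd)) t ht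
        · rw [het]; exact hconjX x (hBX hx) z hz
      have hxS : x * c * x⁻¹ ∈ S₁ :=
        ⟨B₁.mul_mem (B₁.mul_mem (Subgroup.mem_sup_left hx) hcS.1) (B₁.inv_mem (Subgroup.mem_sup_left hx)),
          hxRW⟩
      obtain ⟨d, hd, z, hz, hdz⟩ := hS₁mem _ hxS
      -- the W₀-part has r-power order
      obtain ⟨i, hi⟩ := hR₁r ⟨c, hc⟩
      obtain ⟨j, hj⟩ := hR₁r ⟨d, hd⟩
      have hci : c ^ r ^ i = 1 := congrArg Subtype.val hi
      have hdj : d ^ r ^ j = 1 := congrArg Subtype.val hj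
      have hzd : Commute d z := hS₁cent d (Subgroup.map_subtype_le _ hd) z hz
      have hz1 : z ^ r ^ (i + j) = 1 := by
        have h1 : (x * c * x⁻¹) ^ r ^ (i + j) = 1 := by
          rw [conj_pow, pow_add, pow_mul, hci, one_pow, mul_one, mul_inv_cancel]
        have h2 : d ^ r ^ (i + j) = 1 := by rw [add_comm, pow_add, pow_mul, hdj, one_pow]
        rwa [← hdz, hzd.mul_pow, h2, one_mul] at h1
      obtain ⟨k, hk⟩ := IsPGroup.iff_orderOf.1 hWq ⟨z, hW₀W hz⟩
      rw [← Subgroup.orderOf_coe] at hk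
      have hz2 : z = 1 := orderOf_eq_one_iff.1 (Nat.eq_one_of_dvd_coprimes
        (Nat.Coprime.pow (i + j) k ((Nat.coprime_primes Fact.out Fact.out).2 hrq))
        (orderOf_dvd_of_pow_eq_one hz1) (by rw [hk]))
      rw [← hdz, hz2, mul_one]
      exact hd
    -- N_X(R) = A W₀
    have hNX : ∀ x ∈ X, (∀ c ∈ R, x * c * x⁻¹ ∈ R) → ∃ e ∈ A, ∃ z ∈ W₀, e * z = x := by
      intro x hx h
      obtain ⟨e, he, t, ht, rfl⟩ := hXmem x hx
      refine ⟨e, he, t, ⟨ht, fun c hc => ?_⟩, rfl⟩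
      have h1 : t * c * t⁻¹ ∈ R := by
        have h2 := hconjA hAR e⁻¹ (A.inv_mem he) _ (h c hc)
        simpa [mul_assoc] using h2
      have h3 : ⁅t, c⁆ ∈ R ⊓ W := by
        refine ⟨R.mul_mem h1 (R.inv_mem hc), ?_⟩
        rw [commutatorElement_def, show t * c * t⁻¹ * c⁻¹ = t * (c * t⁻¹ * c⁻¹) by group]
        exact W.mul_mem ht (hconjA hAW c (hRA hc) _ (W.inv_mem ht))
      rw [CfsgLib.Coprime.inf_eq_bot_of_coprime hcop, Subgroup.mem_bot,
        commutatorElement_eq_one_iff_mul_comm] at h3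
      exact h3.symm
    have hBA : ∀ x ∈ B, ∃ e ∈ A, ∃ z ∈ W₀, e * z = v⁻¹ * x * v := by
      intro x hx
      refine hNX _ (X.mul_mem (X.mul_mem (X.inv_mem ((le_sup_right : W ≤ X) hvW)) (hBX hx))
        ((le_sup_right : W ≤ X) hvW)) fun c hc => ?_
      have h1 : x * (v * c * v⁻¹) * x⁻¹ ∈ R₁ := hR₁norm x hx _ (hvR ▸ ⟨c, hc, rfl⟩)
      rw [hvR] at h1
      obtain ⟨d, hd, hde⟩ := h1
      have hde' : v * d * v⁻¹ = x * (v * c * v⁻¹) * x⁻¹ := hde
      rw [show v⁻¹ * x * v * c * (v⁻¹ * x * v)⁻¹ = v⁻¹ * (x * (v * c * v⁻¹) * x⁻¹) * v by group,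
        ← hde', show v⁻¹ * (v * d * v⁻¹) * v = d by group]
      exact hd
    -- v is fixed by g and v⁻¹ w' by its conjugate
    have hkey : ∀ (h : G) (_ : h ∈ A) (t : G), t ∈ W →
        (∃ e ∈ A, ∃ z ∈ W₀, e * z = t * h * t⁻¹) → ⁅t, h⁆ ∈ W₀ := by
      intro h hh t ht ⟨e, he, z, hz, hez⟩
      have htW : ⁅t, h⁆ ∈ W := by
        rw [commutatorElement_def, show t * h * t⁻¹ * h⁻¹ = t * (h * t⁻¹ * h⁻¹) by group]
        exact W.mul_mem ht (hconjA hAW h hh _ (W.inv_mem ht))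
      have h1 : e * h⁻¹ ∈ A ⊓ W := by
        refine ⟨A.mul_mem he (A.inv_mem hh), ?_⟩
        rw [show e * h⁻¹ = ⁅t, h⁆ * (h * z⁻¹ * h⁻¹) by
          rw [commutatorElement_def, ← hez]; group]
        exact W.mul_mem htW (hconjA hAW h hh _ (W.inv_mem (hW₀W hz)))
      rw [show ⁅t, h⁆ = e * h⁻¹ * (h * z * h⁻¹) by rw [commutatorElement_def, ← hez]; group]
      exact W₀.mul_mem (hAinfW h1) (hconjA hAW₀ h hh z hz)
    refine hm (mk v hvW) (mk (v⁻¹ * w') (W.mul_mem (W.inv_mem hvW) hw'W)) ?_ ?_ ?_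
    · rw [hfixmk g' v hvW]
      refine hkey g (hPA g.2) v⁻¹ (W.inv_mem hvW) ?_
      rw [inv_inv]
      exact hBA g (Subgroup.mem_sup_left g.2)
    · rw [hfixmk (a' * g' * a'⁻¹) (v⁻¹ * w') (W.mul_mem (W.inv_mem hvW) hw'W)]
      have hagA : a * g * a⁻¹ ∈ A := A.mul_mem (A.mul_mem haA (hPA g.2)) (A.inv_mem haA)
      show ⁅(v⁻¹ * w')⁻¹, a * g * a⁻¹⁆ ∈ W₀
      have h1 := hkey (a * g * a⁻¹) hagA (v⁻¹ * w') (W.mul_mem (W.inv_mem hvW) hw'W) (by
        rw [show v⁻¹ * w' * (a * g * a⁻¹) * (v⁻¹ * w')⁻¹ = v⁻¹ * (b * g * b⁻¹) * v by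
          simp only [b]; group]
        exact hBA _ hgb)
      have h2 := (Subgroup.mem_normalizer_iff.1 (hWn₀ (W.mul_mem (W.inv_mem hw'W) hvW)) _).1
        (W₀.inv_mem h1)
      rw [show (v⁻¹ * w')⁻¹ = w'⁻¹ * v by group]
      rw [show w'⁻¹ * v * ⁅v⁻¹ * w', a * g * a⁻¹⁆⁻¹ * (w'⁻¹ * v)⁻¹ =
        ⁅w'⁻¹ * v, a * g * a⁻¹⁆ by simp only [commutatorElement_def]; group] at h2
      exact h2
    · refine ((hmk_eq w' (v * (v⁻¹ * w')) hw'W (W.mul_mem hvW
        (W.mul_mem (W.inv_mem hvW) hw'W))).2 ?_).trans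
        (Subtype.ext (map_mul π (inW v hvW) (inW (v⁻¹ * w') (W.mul_mem (W.inv_mem hvW) hw'W))))
      rw [mul_inv_cancel_left, inv_mul_cancel]
      exact W₀.one_mem
  · -- B contains W
    let U := (B ⊓ W) ⊔ W₀
    have hUW : U ≤ W := sup_le inf_le_right hW₀W
    have hUn : W ≤ Subgroup.normalizer (U : Set G) := by
      intro w hw
      rw [Subgroup.mem_normalizer_iff]
      have key : ∀ t ∈ W, ∀ u ∈ U, t * u * t⁻¹ ∈ U := by
        intro t ht u hu
        rw [show t * u * t⁻¹ = ⁅t, u⁆ * u by rw [commutatorElement_def]; group]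
        exact U.mul_mem (Subgroup.mem_sup_right (hder t ht u (hUW hu))) hu
      refine fun k => ⟨key w hw k, fun hk => ?_⟩
      have := key w⁻¹ (W.inv_mem hw) _ hk
      simpa [mul_assoc] using this
    have hBU : B ≤ Subgroup.normalizer (U : Set G) :=
      le_trans (le_inf ((le_inf Subgroup.le_normalizer hBnW).trans
        Subgroup.inf_normalizer_le_normalizer_inf) (hBX.trans hXW₀))
        (Subgroup.normalizer_inf_normalizer_le_normalizer_sup _ _)
    have hU : U = W := (huniq U hUW (hBW.trans (sup_le hBU hUn))).resolve_left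
      (fun h => hBW₀ (le_sup_left.trans h))
    have hWnBW : W ≤ Subgroup.normalizer ((B ⊓ W : Subgroup G) : Set G) := by
      refine hU.ge.trans (sup_le Subgroup.le_normalizer fun z hz => ?_)
      rw [Subgroup.mem_normalizer_iff]
      intro k
      have key : ∀ z ∈ W₀, ∀ k ∈ W, z * k * z⁻¹ = k := fun z hz k hk => by
        rw [← hW₀cent k hk z hz, mul_inv_cancel_right]
      refine ⟨fun hk => by rwa [key z hz k hk.2], fun hk => ?_⟩
      have hkW : k ∈ W := by
        have := W.mul_mem (W.mul_mem (W.inv_mem (hW₀W hz)) hk.2) (hW₀W hz)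
        simpa [mul_assoc] using this
      rwa [key z hz k hkW] at hk
    have hBW' : B ⊓ W = W := (huniq _ inf_le_right (hBW.trans (sup_le
      ((le_inf Subgroup.le_normalizer hBnW).trans Subgroup.inf_normalizer_le_normalizer_inf)
      hWnBW))).resolve_left hBW₀
    have hWB : W ≤ B := hBW' ▸ inf_le_left
    have hAB : A ≤ B := hBW.trans (sup_le le_rfl hWB)
    have hXs : Group.IsSolvable X := by
      haveI := hAs
      haveI : Group.IsSolvable (W.subgroupOf X) :=
        Group.isSolvable_of_surjective (Subgroup.subgroupOfEquivOfLe (le_sup_right : W ≤ X)).symm.surjective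
          (f := (Subgroup.subgroupOfEquivOfLe (le_sup_right : W ≤ X)).symm.toMonoidHom)
      haveI : Group.IsSolvable (X ⧸ W.subgroupOf X) := by
        refine Group.isSolvable_of_surjective (f := (QuotientGroup.mk' (W.subgroupOf X)).comp
          (Subgroup.inclusion (le_sup_left : A ≤ X))) fun x => ?_
        obtain ⟨⟨x, hx⟩, rfl⟩ := QuotientGroup.mk'_surjective _ x
        obtain ⟨e, he, t, ht, rfl⟩ := hXmem x hx
        refine ⟨⟨e, he⟩, ?_⟩
        rw [MonoidHom.comp_apply, QuotientGroup.mk'_apply, QuotientGroup.mk'_apply, QuotientGroup.eq]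
        show e⁻¹ * (e * t) ∈ W
        rwa [inv_mul_cancel_left]
      exact Group.isSolvable_of_ker_le_range (W.subgroupOf X).subtype (QuotientGroup.mk' (W.subgroupOf X))
        (by rw [QuotientGroup.ker_mk', Subgroup.range_subtype])
    have hBs : Group.IsSolvable B := by
      haveI := hXs
      exact Group.isSolvable_of_isSolvable_injective (Subgroup.inclusion_injective hBX)
    have hbB : b ∈ B := B.mul_mem (hWB hw'W) (hAB haA)
    have hBA := hmax B hAB hBs ⟨b, hbB, rfl⟩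
    exact hW₀ne (le_antisymm hW₀W fun w hw => hAinfW ⟨hBA ▸ hWB hw, hw⟩)

end CfsgLib.Rep.TwoConjugateGenerated
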